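/-
A decidable filter excluding most orders `≤ 1092` as orders of non-abelian simple groups.
-/
import Mathlib
import Cfsg.Agent.Lib.SmallGroups.Basic
import Cfsg.Agent.Lib.SmallGroups.PrimeSylow
import Cfsg.Agent.Lib.SmallGroups.SymSylow
import Cfsg.Agent.Lib.Burnside.Paqb
import Cfsg.Agent.S0987
import Cfsg.Agent.S0988
import Cfsg.Agent.S0499
import Cfsg.Agent.S1001

set_option autoImplicit false
set_option linter.style.haveILetI false

namespace Cfsg.Agent.Lib.SmallGroups.Below1092

open Subgroup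
open scoped Nat

/-- primality test for numbers below `34²` -/
def smallPrime (p : ℕ) : Bool :=
  decide (2 ≤ p) && decide (p < 1156) &&
    (List.range (min p 34)).all (fun d => decide (d < 2) || !(p % d == 0))

theorem prime_of_smallPrime {p : ℕ} (h : smallPrime p = true) : p.Prime := by
  simp only [smallPrime, Bool.and_eq_true, decide_eq_true_eq, List.all_eq_true, List.mem_range,
    Bool.or_eq_true, Bool.not_eq_true', beq_eq_false_iff_ne] at h
  obtain ⟨⟨h2, hp⟩, h3⟩ := h
  rw [Nat.prime_def_le_sqrt]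
  refine ⟨h2, fun m hm1 hm2 hmd => ?_⟩
  have hs : Nat.sqrt p < 34 := Nat.sqrt_lt'.mpr (by norm_num; omega)
  have hmp : m < p := lt_of_le_of_lt hm2 (Nat.sqrt_lt_self (by omega))
  rcases h3 m (by omega) with h | h
  · omega
  · exact h (Nat.mod_eq_zero_of_dvd hmd)

/-- `d` is still possible as the number of Sylow `q`-subgroups (`q ^ a` exactly dividing `n`). -/
def okNum (n q a d : ℕ) : Bool :=
  !(d == 1) && (decide (40 ≤ d) || d ! % (2 * n) == 0) && (!(a == 1) || !(Nat.gcd (q - 1) (n / d) == 1)) &&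
    (q == 2 || !(d == q + 1) || ((q + 1) * (q * (q - 1))) % (2 * n) == 0)

/-- no Sylow number is possible for `q ^ a` -/
def sylRule (n q a : ℕ) : Bool :=
  smallPrime q && !(a == 0) && (n == q ^ a * (n / q ^ a)) && !((n / q ^ a) % q == 0) &&
    (List.range (n / q ^ a / q + 1)).all
      (fun i => !((n / q ^ a) % (q * i + 1) == 0 && okNum n q a (q * i + 1)))

/-- the rule for orders `2 ^ a * 3 ^ b * p` -/
def selfRule (n p a b : ℕ) : Bool :=
  smallPrime p && decide (5 ≤ p) && (n == 2 ^ a * 3 ^ b * p) &&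
    (List.range (2 ^ a * 3 ^ b / p + 1)).all
      (fun i => !((2 ^ a * 3 ^ b) % (p * i + 1) == 0 && okNum n p 1 (p * i + 1) &&
        (p - 1) % (2 ^ a * 3 ^ b / (p * i + 1)) == 0 && !(2 ^ a * 3 ^ b / (p * i + 1) == 1)))

def twoPrimeRule (n : ℕ) : List (ℕ × ℕ) → Bool
  | [(p, a)] => smallPrime p && (n == p ^ a)
  | [(p, a), (q, b)] => smallPrime p && smallPrime q && (n == p ^ a * q ^ b)
  | _ => false

def threePrimeRule (n : ℕ) : List (ℕ × ℕ) → Bool
  | [(p, a), (q, b), (r, c)] => smallPrime p && smallPrime q && smallPrime r &&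
      ((decide (p < q) && decide (q < r) && n == p * q * r) ||
        (!(n == 60) && (n == p ^ 2 * q * r || n == q ^ 2 * p * r || n == r ^ 2 * p * q)) ||
        (a + b + c == 0))
  | _ => false

def evenRule (n : ℕ) : Bool :=
  n % 2 == 0 && !(n % 12 == 0) && !(n % 16 == 0) && !(n % 56 == 0)

def leastFac (n : ℕ) : ℕ :=
  ((List.range 34).find? (fun d => decide (2 ≤ d) && n % d == 0)).getD n

def addFac (p : ℕ) : List (ℕ × ℕ) → List (ℕ × ℕ)
  | [] => [(p, 1)]
  | (q, a) :: l => if p == q then (q, a + 1) :: l else (p, 1) :: (q, a) :: l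

def facList : ℕ → ℕ → List (ℕ × ℕ)
  | 0, _ => []
  | k + 1, n => if n ≤ 1 then [] else addFac (leastFac n) (facList k (n / leastFac n))

/-- the order `n` is excluded -/
def excluded (n : ℕ) : Bool :=
  let l := facList 11 n
  twoPrimeRule n l || (match l with
    | [(p, 1), (q, 1), (r, 1)] => threePrimeRule n [(p, 1), (q, 1), (r, 1)]
    | [(p, a), (q, b), (r, c)] =>
        (a + b + c == 4 && threePrimeRule n [(p, a), (q, b), (r, c)]) ||
          (p == 2 && q == 3 && c == 1 && selfRule n r a b)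
    | _ => false) || evenRule n || l.any (fun x => sylRule n x.1 x.2)

/-- the orders left by the filter -/
theorem excluded_or_mem : (List.range 1093).all (fun n => excluded n ||
    [0, 1, 60, 168, 360, 504, 660, 1092, 420, 612, 720, 756, 840, 900, 960, 1040].contains n) = true := by
  decide +kernel

variable {G : Type*} [Group G] [Finite G] [IsSimpleGroup G]

theorem okNum_of_sylow (hG : ¬ IsMulCommutative G) {q a m : ℕ} [hq : Fact q.Prime]
    (h : Nat.card G = q ^ a * m) (hm : ¬ q ∣ m) (ha : a ≠ 0) :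
    okNum (Nat.card G) q a (Nat.card (Sylow q G)) = true := by
  set d := Nat.card (Sylow q G) with hd
  have hqd : q ∣ Nat.card G := h ▸ (dvd_pow_self q ha).mul_right m
  simp only [okNum, Bool.and_eq_true, Bool.or_eq_true, Bool.not_eq_true', beq_eq_false_iff_ne,
    decide_eq_true_eq, beq_iff_eq]
  refine ⟨⟨⟨card_sylow_ne_one hG q hqd,
    Or.inr (Nat.mod_eq_zero_of_dvd (two_mul_card_dvd_factorial_card_sylow hG hqd))⟩, ?_⟩, ?_⟩
  · by_cases h1 : a = 1
    · right
      subst h1
      have P : Sylow q G := default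
      obtain ⟨e, he, he1, -, hN⟩ := exists_card_normalizer_eq_of_simple hG P
        (by rw [card_sylow_eq P h hm, pow_one])
      intro hgcd
      refine he1 (Nat.eq_one_of_dvd_one (hgcd ▸ Nat.dvd_gcd he ?_))
      rw [← card_normalizer_sylow_mul P, Nat.mul_div_cancel _ Nat.card_pos, hN]
      exact dvd_mul_right e _
    · exact Or.inl h1
  · by_cases h2 : q = 2
    · exact Or.inl (Or.inl h2)
    by_cases h3 : d = q + 1
    · exact Or.inr (Nat.mod_eq_zero_of_dvd (two_mul_card_dvd_of_card_sylow hG h2 hqd h3))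
    · exact Or.inl (Or.inr h3)

theorem sylow_form {q m d : ℕ} (hq : 2 ≤ q) (hdm : d ∣ m) (hm : m ≠ 0) (hd : d % q = 1) :
    ∃ i, i < m / q + 1 ∧ d = q * i + 1 := by
  refine ⟨d / q, Nat.lt_succ_of_le (Nat.div_le_div_right (Nat.le_of_dvd (Nat.pos_of_ne_zero hm) hdm)), ?_⟩
  have := Nat.div_add_mod d q
  omega

theorem false_of_sylRule (hG : ¬ IsMulCommutative G) {q a : ℕ}
    (h : sylRule (Nat.card G) q a = true) : False := by
  simp only [sylRule, Bool.and_eq_true, Bool.not_eq_true', beq_eq_false_iff_ne, beq_iff_eq,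
    List.all_eq_true, List.mem_range, Bool.and_eq_false_iff] at h
  obtain ⟨⟨⟨⟨hq, ha⟩, hn⟩, hm⟩, hall⟩ := h
  haveI : Fact q.Prime := ⟨prime_of_smallPrime hq⟩
  have hm' : ¬ q ∣ Nat.card G / q ^ a := fun h => hm (Nat.mod_eq_zero_of_dvd h)
  have hd := card_sylow_mem hG hn hm' ha
  rw [Finset.mem_filter, Nat.mem_divisors] at hd
  obtain ⟨i, hi, hdi⟩ := sylow_form (Fact.out : q.Prime).two_le hd.1.1 hd.1.2 hd.2.1
  rcases hall i hi with h1 | h1
  · exact h1 (Nat.mod_eq_zero_of_dvd (hdi ▸ hd.1.1))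
  · rw [← hdi, okNum_of_sylow hG hn hm' ha] at h1
    exact Bool.noConfusion h1

/-- In a group of order `2 ^ a * 3 ^ b * p` we have `|N(P)| = e * p` with `1 ≠ e ∣ p - 1`. -/
theorem self_data (hG : ¬ IsMulCommutative G) {p a b : ℕ} [hp : Fact p.Prime] (h5 : 5 ≤ p)
    (h : Nat.card G = 2 ^ a * 3 ^ b * p) :
    ∃ (P : Sylow p G) (e : ℕ), Nat.card (P : Subgroup G) = p ∧
      e ∣ p - 1 ∧ e ≠ 1 ∧ Nat.card (Sylow p G) * e = 2 ^ a * 3 ^ b ∧
      Nat.card (normalizer ((P : Subgroup G) : Set G)) = e * p ∧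
      Nat.card (centralizer ((P : Subgroup G) : Set G)) = p := by
  have hm : ¬ p ∣ 2 ^ a * 3 ^ b := by
    intro hd
    rcases hp.out.dvd_mul.mp hd with h' | h' <;>
      have := Nat.le_of_dvd (by norm_num) (hp.out.dvd_of_dvd_pow h') <;> omega
  have h' : Nat.card G = p ^ 1 * (2 ^ a * 3 ^ b) := by rw [h]; ring
  let P : Sylow p G := default
  have hP : Nat.card (P : Subgroup G) = p := by rw [card_sylow_eq P h' hm, pow_one]
  obtain ⟨e, he, he1, -, hN⟩ := exists_card_normalizer_eq_of_simple hG P hP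
  obtain ⟨⟨y, hy⟩, hy'⟩ := exists_prime_orderOf_dvd_card' (G := (P : Subgroup G)) p
    (dvd_of_eq hP.symm)
  rw [Subgroup.orderOf_mk] at hy'
  have hy1 : y ≠ 1 := fun e' => by rw [e', orderOf_one] at hy'; exact hp.out.ne_one hy'.symm
  have hC : Nat.card (centralizer ((P : Subgroup G) : Set G)) = p := by
    rw [← centralizer_eq_of_prime hP hy hy1,
      Cfsg.Agent.S1001.result p b a hp.out (by rw [h]; ring) y hy',
      zpowers_eq_of_prime hP hy hy1, hP]
  rw [hC] at hN
  refine ⟨P, e, hP, he, he1, ?_, hN, hC⟩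
  have h1 := card_normalizer_sylow_mul P
  rw [hN, h] at h1
  refine Nat.eq_of_mul_eq_mul_right hp.out.pos ?_
  rw [← h1]
  ring

theorem false_of_selfRule (hG : ¬ IsMulCommutative G) {p a b : ℕ}
    (h : selfRule (Nat.card G) p a b = true) : False := by
  simp only [selfRule, Bool.and_eq_true, Bool.not_eq_true', beq_eq_false_iff_ne, beq_iff_eq,
    decide_eq_true_eq, List.all_eq_true, List.mem_range, Bool.and_eq_false_iff] at h
  obtain ⟨⟨⟨hp, h5⟩, hn⟩, hall⟩ := h
  haveI : Fact p.Prime := ⟨prime_of_smallPrime hp⟩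
  obtain ⟨P, e, hP, he, he1, hde, -, -⟩ := self_data hG h5 hn
  have hm0 : 2 ^ a * 3 ^ b ≠ 0 := by positivity
  have hd1 : Nat.card (Sylow p G) % p = 1 := by
    have := card_sylow_modEq_one p G
    rwa [Nat.ModEq, Nat.mod_eq_of_lt (Fact.out : p.Prime).one_lt] at this
  have hdvd : Nat.card (Sylow p G) ∣ 2 ^ a * 3 ^ b := Dvd.intro e hde
  have hm : ¬ p ∣ 2 ^ a * 3 ^ b := by
    intro hd
    rcases (Fact.out : p.Prime).dvd_mul.mp hd with h' | h' <;>
      have := Nat.le_of_dvd (by norm_num) ((Fact.out : p.Prime).dvd_of_dvd_pow h') <;> omega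
  have hok : okNum (Nat.card G) p 1 (Nat.card (Sylow p G)) = true :=
    okNum_of_sylow hG (m := 2 ^ a * 3 ^ b) (by rw [hn]; ring) hm one_ne_zero
  obtain ⟨i, hi, hdi⟩ := sylow_form (Fact.out : p.Prime).two_le hdvd hm0 hd1
  have hed : 2 ^ a * 3 ^ b / (p * i + 1) = e := by
    rw [← hde, hdi, Nat.mul_div_cancel_left _ (Nat.succ_pos _)]
  rcases hall i hi with ((h1 | h1) | h1) | h1
  · exact h1 (Nat.mod_eq_zero_of_dvd (hdi ▸ hdvd))
  · rw [← hdi, hok] at h1
    exact Bool.noConfusion h1
  · rw [hed] at h1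
    exact h1 (Nat.mod_eq_zero_of_dvd he)
  · rw [hed] at h1
    exact he1 (by simpa using h1)

theorem false_of_two_primes (hG : ¬ IsMulCommutative G) {p q a b : ℕ} (hp : p.Prime) (hq : q.Prime)
    (h : Nat.card G = p ^ a * q ^ b) : False :=
  not_isSolvable hG (Cfsg.Agent.Lib.Burnside.isSolvable_of_card_eq_prime_pow_mul hp hq h)

theorem false_of_excluded (hG : ¬ IsMulCommutative G) (h : excluded (Nat.card G) = true) :
    False := by
  unfold excluded at h
  generalize facList 11 (Nat.card G) = l at h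
  simp only [Bool.or_eq_true] at h
  rcases h with ((h | h) | h) | h
  · unfold twoPrimeRule at h
    split at h
    · next p a =>
      simp only [Bool.and_eq_true, beq_iff_eq] at h
      exact false_of_two_primes hG (prime_of_smallPrime h.1) (prime_of_smallPrime h.1)
        (a := a) (b := 0) (by rw [h.2]; simp)
    · next p a q b =>
      simp only [Bool.and_eq_true, beq_iff_eq] at h
      exact false_of_two_primes hG (prime_of_smallPrime h.1.1) (prime_of_smallPrime h.1.2) h.2
    · exact Bool.noConfusion h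
  · have three : ∀ {p a q b r c : ℕ}, a + b + c ≠ 0 →
        threePrimeRule (Nat.card G) [(p, a), (q, b), (r, c)] = true → False := by
      intro p a q b r c hne h
      simp only [threePrimeRule, Bool.and_eq_true, Bool.or_eq_true, beq_iff_eq, decide_eq_true_eq,
        Bool.not_eq_true', beq_eq_false_iff_ne] at h
      obtain ⟨⟨⟨hp, hq⟩, hr⟩, h⟩ := h
      have hp := prime_of_smallPrime hp
      have hq := prime_of_smallPrime hq
      have hr := prime_of_smallPrime hr
      rcases h with (⟨⟨h1, h2⟩, h3⟩ | ⟨h60, (h3 | h3) | h3⟩) | h3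
      · haveI : Fact r.Prime := ⟨hr⟩
        have R : Sylow r G := default
        have hn := Cfsg.Agent.S0987.result p q r hp hq h1 h2 h3 R
        exact normalizer_sylow_ne_top hG (h3 ▸ dvd_mul_left r _) R (normalizer_eq_top_iff.mpr hn)
      · exact h60 (Cfsg.Agent.S0988.result p q r hp hq hr h3)
      · exact h60 (Cfsg.Agent.S0988.result q p r hq hp hr h3)
      · exact h60 (Cfsg.Agent.S0988.result r p q hr hp hq h3)
      · exact hne h3
    split at h
    · exact three (by omega) h
    · next p a q b r c _ =>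
      simp only [Bool.and_eq_true, Bool.or_eq_true, beq_iff_eq] at h
      rcases h with h | h
      · exact three (by omega) h.2
      · exact false_of_selfRule hG h.2
    · exact Bool.noConfusion h
  · simp only [evenRule, Bool.and_eq_true, beq_iff_eq, Bool.not_eq_true', beq_eq_false_iff_ne] at h
    rcases Cfsg.Agent.S0499.result hG (Nat.even_iff.mpr h.1.1.1) with h' | h' | h' <;> omega
  · rw [List.any_eq_true] at h
    obtain ⟨x, -, hx⟩ := h
    exact false_of_sylRule hG hx

/-- The orders at most 1092 that need individual treatment. -/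
theorem mem_survivors (hG : ¬ IsMulCommutative G) (h : Nat.card G ≤ 1092) :
    Nat.card G ∈ [60, 168, 360, 504, 660, 1092, 420, 612, 720, 756, 840, 900, 960, 1040] := by
  have h1 := List.all_eq_true.mp excluded_or_mem (Nat.card G) (List.mem_range.mpr (by omega))
  rw [Bool.or_eq_true] at h1
  rcases h1 with h1 | h1
  · exact (false_of_excluded hG h1).elim
  · have h2 : 1 < Nat.card G := Finite.one_lt_card
    rw [List.contains_iff_mem] at h1
    simp only [List.mem_cons, List.not_mem_nil, or_false] at h1 ⊢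
    omega

end Cfsg.Agent.Lib.SmallGroups.Below1092
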