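/-
No non-abelian simple group has order 420, 612, 756, 840, 900, 960 or 1040.
-/
import Mathlib
import Cfsg.Agent.Lib.SmallGroups.Below1092.Kill
import Cfsg.Agent.Lib.SmallGroups.InvolutionParity
import Cfsg.Agent.Lib.SmallGroups.Intersection
import Cfsg.Agent.Lib.SmallGroups.PrimeChar.Corollaries
import Cfsg.Agent.Lib.HallWielandt.Basic
import Cfsg.Agent.Lib.Transfer.Criteria
import Cfsg.Agent.S0992

set_option autoImplicit false
set_option linter.style.haveILetI false

namespace Cfsg.Agent.Lib.SmallGroups.Below1092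

open Subgroup MulAction

variable {G : Type*} [Group G] [Finite G] [IsSimpleGroup G]

/-- A Sylow number satisfies the filter condition. -/
theorem okNum_mem (hG : ¬ IsMulCommutative G) {n q a m : ℕ} [Fact q.Prime] (hn : Nat.card G = n)
    (h : n = q ^ a * m) (hm : ¬ q ∣ m) (ha : a ≠ 0) :
    Nat.card (Sylow q G) ∈ (Nat.divisors m).filter (fun d => d % q = 1 ∧ okNum n q a d = true) := by
  have h' := card_sylow_mem hG (hn.trans h) hm ha
  rw [Finset.mem_filter] at h' ⊢
  exact ⟨h'.1, h'.2.1, hn ▸ okNum_of_sylow hG (hn.trans h) hm ha⟩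

theorem card_ne_1040 (hG : ¬ IsMulCommutative G) : Nat.card G ≠ 1040 := by
  intro hn
  haveI : Fact (Nat.Prime 13) := ⟨by norm_num⟩
  have h13 := okNum_mem hG (q := 13) (a := 1) (m := 80) hn (by norm_num) (by norm_num) one_ne_zero
  rw [show (Nat.divisors 80).filter (fun d => d % 13 = 1 ∧ okNum 1040 13 1 d = true) = {40} by
    decide +kernel, Finset.mem_singleton] at h13
  have P : Sylow 13 G := default
  have hP : Nat.card (P : Subgroup G) = 13 := by
    rw [card_sylow_eq P (k := 1) (m := 80) hn (by norm_num), pow_one]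
  obtain ⟨f, d, hf, hd, hf1, hmod, hle⟩ :=
    PrimeChar.degrees_two hG (t := 6) P hP (by rw [h13, hn]) rfl (by norm_num)
  rw [hn] at hf hd hle
  have hf' : f < 33 := by nlinarith
  rcases hmod with ⟨hm, rfl⟩ | ⟨hm, hfd⟩
  · interval_cases f <;> omega
  · obtain rfl : f = d + 1 := hfd.symm
    have hd' : d < 32 := by omega
    interval_cases d <;> omega

theorem card_ne_612 (hG : ¬ IsMulCommutative G) : Nat.card G ≠ 612 := by
  intro hn
  haveI : Fact (Nat.Prime 17) := ⟨by norm_num⟩
  obtain ⟨P, e, hP, he, he1, hde, hN, -⟩ :=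
    self_data hG (p := 17) (a := 2) (b := 2) (by norm_num) (by rw [hn]; norm_num)
  have h17 := okNum_mem hG (q := 17) (a := 1) (m := 36) hn (by norm_num) (by norm_num) one_ne_zero
  rw [show (Nat.divisors 36).filter (fun d => d % 17 = 1 ∧ okNum 612 17 1 d = true) = {18} by
    decide +kernel, Finset.mem_singleton] at h17
  obtain ⟨f, d, hf, hd, hf1, hmod, hle⟩ :=
    PrimeChar.degrees_two hG (t := 8) P hP (by rw [h17, hn]) rfl (by norm_num)
  rw [hn] at hf hd hle
  have hf' : f < 25 := by nlinarith
  rcases hmod with ⟨hm, rfl⟩ | ⟨hm, hfd⟩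
  · interval_cases f <;> omega
  · obtain rfl : f = d + 1 := hfd.symm
    have hd' : d < 24 := by omega
    interval_cases d <;> omega

/-- Two Sylow subgroups meeting in a subgroup `D` of prime index give a large normalizer. -/
theorem inter_normalizer_data (hG : ¬ IsMulCommutative G) (p : ℕ) [hp : Fact p.Prime]
    (h : ¬ Nat.card (Sylow p G) ≡ 1 [MOD p ^ 2]) :
    ∃ (P : Sylow p G) (D : Subgroup G) (j : ℕ), p * Nat.card D = Nat.card (P : Subgroup G) ∧
      (D ≠ ⊥ → normalizer (D : Set G) ≠ ⊤) ∧
      Nat.card (normalizer (D : Set G)) = Nat.card (P : Subgroup G) * j ∧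
      ∃ s, s ∣ j ∧ s ≠ 1 ∧ s % p = 1 := by
  obtain ⟨P, R, hne, hcard, hP, hR⟩ := exists_inter_index_prime p h
  set D := (P : Subgroup G) ⊓ (R : Subgroup G) with hD
  set N := normalizer (D : Set G) with hN
  have hDP : D ≠ (P : Subgroup G) := by
    intro e
    rw [e] at hcard
    have hpos := Nat.card_pos (α := (P : Subgroup G))
    have := hp.out.two_le
    nlinarith
  have h1 := ((P.subtype hP : Sylow p N) : Subgroup N).card_mul_index
  have hPc : Nat.card ((P.subtype hP : Sylow p N) : Subgroup N) = Nat.card (P : Subgroup G) := by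
    rw [Sylow.coe_subtype]
    exact Nat.card_congr (subgroupOfEquivOfLe hP).toEquiv
  rw [hPc] at h1
  refine ⟨P, D, _, hcard, fun hb => normalizer_ne_top hb fun ht => hDP ?_, h1.symm,
    Nat.card (Sylow p N), (P.subtype hP).card_dvd_index, ?_, ?_⟩
  · exact le_antisymm inf_le_left (by rw [ht]; exact le_top)
  · intro h1
    haveI : Subsingleton (Sylow p N) := (Nat.card_eq_one_iff_unique.mp h1).1
    exact hne (Sylow.subtype_injective (hP := hP) (hQ := hR) (Subsingleton.elim _ _))
  · have := card_sylow_modEq_one p N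
    rwa [Nat.ModEq, Nat.mod_eq_of_lt hp.out.one_lt] at this

theorem card_ne_900 (hG : ¬ IsMulCommutative G) : Nat.card G ≠ 900 := by
  intro hn
  haveI : Fact (Nat.Prime 5) := ⟨by norm_num⟩
  have h5 := okNum_mem hG (q := 5) (a := 2) (m := 36) hn (by norm_num) (by norm_num) two_ne_zero
  rw [show (Nat.divisors 36).filter (fun d => d % 5 = 1 ∧ okNum 900 5 2 d = true) = {36} by
    decide +kernel, Finset.mem_singleton] at h5
  obtain ⟨P, D, j, hD, htop, hN, s, hs, hs1, hs5⟩ :=
    inter_normalizer_data hG 5 (by rw [h5]; decide)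
  rw [card_sylow_eq P (k := 2) (m := 36) hn (by norm_num)] at hD hN
  have hD' : D ≠ ⊥ := fun e => by rw [e, card_bot] at hD; norm_num at hD
  have hdiv := two_mul_card_dvd_factorial hG (htop hD')
  have hidx := (normalizer (D : Set G)).card_mul_index
  rw [hN, hn] at hidx
  rw [hn] at hdiv
  have hj : j ∣ 36 := ⟨(normalizer (D : Set G)).index, by linarith⟩
  have hs36 : s ∣ 36 := hs.trans hj
  have hj0 : 0 < j := Nat.pos_of_dvd_of_pos hj (by norm_num)
  have hsle := Nat.le_of_dvd hj0 hs
  have hs6 : 6 ≤ s := by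
    have := Nat.pos_of_dvd_of_pos hs36 (by norm_num)
    omega
  have hi : (normalizer (D : Set G)).index ≤ 6 := by nlinarith
  interval_cases h : (normalizer (D : Set G)).index <;>
    first | omega | norm_num [Nat.factorial] at hdiv

theorem card_ne_960 (hG : ¬ IsMulCommutative G) : Nat.card G ≠ 960 := by
  intro hn
  haveI : Fact (Nat.Prime 2) := ⟨by norm_num⟩
  have h2 := okNum_mem hG (q := 2) (a := 6) (m := 15) hn (by norm_num) (by norm_num) (by norm_num)
  rw [show (Nat.divisors 15).filter (fun d => d % 2 = 1 ∧ okNum 960 2 6 d = true) = {15} by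
    decide +kernel, Finset.mem_singleton] at h2
  obtain ⟨P, D, j, hD, htop, hN, s, hs, hs1, hs2⟩ :=
    inter_normalizer_data hG 2 (by rw [h2]; decide)
  rw [card_sylow_eq P (k := 6) (m := 15) hn (by norm_num)] at hD hN
  have hD' : D ≠ ⊥ := fun e => by rw [e, card_bot] at hD; norm_num at hD
  have hdiv := two_mul_card_dvd_factorial hG (htop hD')
  have hidx := (normalizer (D : Set G)).card_mul_index
  rw [hN, hn] at hidx
  rw [hn] at hdiv
  have hj : j ∣ 15 := ⟨(normalizer (D : Set G)).index, by linarith⟩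
  have hj0 : 0 < j := Nat.pos_of_dvd_of_pos hj (by norm_num)
  have hsle := Nat.le_of_dvd hj0 hs
  have hs3 : 3 ≤ s := by omega
  have hi : (normalizer (D : Set G)).index ≤ 5 := by nlinarith
  interval_cases h : (normalizer (D : Set G)).index <;>
    first | omega | norm_num [Nat.factorial] at hdiv

/-- The action on 15 Sylow 7-subgroups: no involution commutes with an element of order 5. -/
theorem false_of_commute_five (hG : ¬ IsMulCommutative G) {P : Subgroup G} (hP : P.index = 15)
    (h5 : ¬ 5 ∣ Nat.card P) {r u : G} (hr : orderOf r = 5) (hu : orderOf u = 2)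
    (hc : r * u = u * r) : False := by
  classical
  haveI : Fact (Nat.Prime 5) := ⟨by norm_num⟩
  have hX : Nat.card (G ⧸ P) = 15 := hP
  have hmem : ∀ x, x ∈ fixedBy (G ⧸ P) u → r • x ∈ fixedBy (G ⧸ P) u := by
    intro x hx
    rw [mem_fixedBy] at hx ⊢
    rw [smul_smul, ← hc, ← smul_smul, hx]
  let f : Function.End ↥(fixedBy (G ⧸ P) u) := fun x => ⟨r • x.1, hmem x.1 x.2⟩
  have hf : ∀ (k : ℕ) (x : ↥(fixedBy (G ⧸ P) u)), ((f^[k]) x).1 = r ^ k • x.1 := by
    intro k
    induction k with
    | zero => intro x; rw [pow_zero, one_smul]; rfl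
    | succ k ih =>
      intro x
      rw [Function.iterate_succ_apply', pow_succ', ← smul_smul, ← ih x]
  have hfp : ∀ x : G ⧸ P, r • x ≠ x := by
    intro x
    induction x using QuotientGroup.induction_on with | _ g =>
    intro hx
    rw [MulAction.Quotient.smul_mk, QuotientGroup.eq, smul_eq_mul, mul_inv_rev] at hx
    apply h5
    have ho : orderOf (g⁻¹ * r⁻¹ * g) = 5 := by
      have := (MulAut.conj g⁻¹).orderOf_eq r⁻¹
      rw [orderOf_inv, hr, MulAut.conj_apply, inv_inv] at this
      exact this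
    rw [← ho, ← orderOf_mk (H := P) _ hx]
    exact orderOf_dvd_natCard _
  haveI := Fintype.ofFinite ↥(fixedBy (G ⧸ P) u)
  have hmod := Equiv.Perm.card_fixedPoints_modEq (f := f) (p := 5) (n := 1)
    (funext fun x => Subtype.ext (by
      show ((f^[5 ^ 1]) x).1 = x.1
      rw [hf, pow_one, ← hr, pow_orderOf_eq_one, one_smul]))
  haveI : IsEmpty ↥(Function.fixedPoints f) := ⟨fun x => hfp x.1.1 (congrArg Subtype.val x.2)⟩
  rw [Fintype.card_eq_zero (α := ↥(Function.fixedPoints f)), ← Nat.card_eq_fintype_card] at hmod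
  have h4 := card_fixedBy_mod_four hG (X := G ⧸ P) hu
  rw [hX] at h4
  have hle := Finite.card_subtype_le (fun x : G ⧸ P => x ∈ fixedBy (G ⧸ P) u)
  rw [hX] at hle
  have h15 : Nat.card ↥(fixedBy (G ⧸ P) u) = 15 := by
    unfold Nat.ModEq at hmod
    change Nat.card ↥(fixedBy (G ⧸ P) u) ≤ 15 at hle
    omega
  have hall : fixedBy (G ⧸ P) u = Set.univ :=
    Set.eq_of_subset_of_ncard_le (Set.subset_univ _)
      (by rw [Set.ncard_univ, hX, ← Nat.card_coe_set_eq, h15])
  have hPt : P ≠ ⊤ := fun e => by rw [e, index_top] at hP; norm_num at hP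
  have h1 : u = 1 := toPermHom_injective hPt (by
    rw [map_one]
    refine Equiv.ext fun x => ?_
    have hx : x ∈ fixedBy (G ⧸ P) u := by rw [hall]; trivial
    exact hx)
  rw [h1, orderOf_one] at hu
  norm_num at hu

theorem false_of_five_centralizer (hG : ¬ IsMulCommutative G) {n : ℕ} (hn : Nat.card G = n)
    (h : n = 420 ∨ n = 840) : False := by
  classical
  haveI : Fact (Nat.Prime 2) := ⟨by norm_num⟩
  haveI : Fact (Nat.Prime 5) := ⟨by norm_num⟩
  haveI : Fact (Nat.Prime 7) := ⟨by norm_num⟩
  have R : Sylow 5 G := default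
  have P : Sylow 7 G := default
  obtain ⟨h7, h5, hR, hcase⟩ : Nat.card (Sylow 7 G) = 15 ∧ Nat.card (Sylow 5 G) = 21 ∧
      Nat.card (R : Subgroup G) = 5 ∧ (Nat.card G = 420 ∨ Nat.card G = 840) := by
    rcases h with rfl | rfl
    · have h7 := okNum_mem hG (q := 7) (a := 1) (m := 60) hn (by norm_num) (by norm_num) one_ne_zero
      have h5 := okNum_mem hG (q := 5) (a := 1) (m := 84) hn (by norm_num) (by norm_num) one_ne_zero
      rw [show (Nat.divisors 60).filter (fun d => d % 7 = 1 ∧ okNum 420 7 1 d = true) = {15} by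
        decide +kernel, Finset.mem_singleton] at h7
      rw [show (Nat.divisors 84).filter (fun d => d % 5 = 1 ∧ okNum 420 5 1 d = true) = {21} by
        decide +kernel, Finset.mem_singleton] at h5
      exact ⟨h7, h5, by rw [card_sylow_eq R (k := 1) (m := 84) hn (by norm_num), pow_one], Or.inl hn⟩
    · have h7 := okNum_mem hG (q := 7) (a := 1) (m := 120) hn (by norm_num) (by norm_num) one_ne_zero
      have h5 := okNum_mem hG (q := 5) (a := 1) (m := 168) hn (by norm_num) (by norm_num) one_ne_zero
      rw [show (Nat.divisors 120).filter (fun d => d % 7 = 1 ∧ okNum 840 7 1 d = true) = {15} by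
        decide +kernel, Finset.mem_singleton] at h7
      rw [show (Nat.divisors 168).filter (fun d => d % 5 = 1 ∧ okNum 840 5 1 d = true) = {21} by
        decide +kernel, Finset.mem_singleton] at h5
      exact ⟨h7, h5, by rw [card_sylow_eq R (k := 1) (m := 168) hn (by norm_num), pow_one], Or.inr hn⟩
  set NP := normalizer ((P : Subgroup G) : Set G) with hNP
  have hidx : NP.index = 15 := P.card_eq_index_normalizer.symm.trans h7
  have hNP5 : ¬ 5 ∣ Nat.card NP := by
    have := card_normalizer_sylow_mul P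
    rw [h7, ← hNP] at this
    rcases hcase with hc | hc <;> rw [hc] at this <;> omega
  obtain ⟨⟨r, hrR⟩, hr⟩ := exists_prime_orderOf_dvd_card' (G := (R : Subgroup G)) 5 (dvd_of_eq hR.symm)
  rw [Subgroup.orderOf_mk] at hr
  have hr1 : r ≠ 1 := fun e => by rw [e, orderOf_one] at hr; norm_num at hr
  obtain ⟨e, he, he1, -, hN⟩ := exists_card_normalizer_eq_of_simple hG R hR
  have hNc := card_normalizer_sylow_mul R
  rw [h5] at hNc
  obtain ⟨u, hu, huc⟩ : ∃ u : G, orderOf u = 2 ∧ r * u = u * r := by
    by_cases hev : 2 ∣ Nat.card (centralizer ((R : Subgroup G) : Set G))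
    · obtain ⟨⟨u, huC⟩, hu⟩ :=
        exists_prime_orderOf_dvd_card' (G := centralizer ((R : Subgroup G) : Set G)) 2 hev
      rw [Subgroup.orderOf_mk] at hu
      exact ⟨u, hu, mem_centralizer_iff.mp huC r hrR⟩
    have he4 : e = 2 ∨ e = 4 := by
      have := Nat.le_of_dvd (by norm_num) he
      interval_cases e <;> first
        | exact Or.inl rfl
        | exact Or.inr rfl
        | exact absurd rfl he1
        | norm_num at he
    rcases hcase with h420 | h840
    swap
    · exfalso
      rw [h840, hN] at hNc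
      rcases he4 with rfl | rfl <;> omega
    rw [h420] at hNc
    obtain ⟨K, hK⟩ := Sylow.exists_subgroup_card_pow_prime
      (G := normalizer ((R : Subgroup G) : Set G)) 2 (n := 2) (by rw [show (2 : ℕ) ^ 2 = 4 from rfl]; omega)
    have hKG : Nat.card (K.map (normalizer ((R : Subgroup G) : Set G)).subtype) = 4 := by
      rw [Subgroup.card_map_of_injective (Subgroup.subtype_injective _), hK]
      norm_num
    obtain ⟨T, hT⟩ :=
      (IsPGroup.of_card (p := 2) (n := 2) (by rw [hKG]; norm_num : _ = 2 ^ 2)).exists_le_sylow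
    have hTc : Nat.card (T : Subgroup G) = 4 := by
      rw [card_sylow_eq T (k := 2) (m := 105) (by rw [h420]; norm_num) (by norm_num)]
      norm_num
    have hTN : (T : Subgroup G) ≤ normalizer ((R : Subgroup G) : Set G) := by
      rw [← Subgroup.eq_of_le_of_card_ge hT (by rw [hTc, hKG])]
      exact map_subtype_le _
    obtain ⟨hKl, -⟩ := Cfsg.Agent.S0992.result hG (by rw [h420]; decide) (by rw [h420]; norm_num) T
    have hconj : ∀ t ∈ (T : Subgroup G), t * r = r * t ∨ t * r = r⁻¹ * t := by
      intro t ht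
      have htt : t * t = 1 := congrArg Subtype.val
        (IsKleinFour.mul_self (⟨t, ht⟩ : (T : Subgroup G)))
      have h1 : t * r * t⁻¹ ∈ (R : Subgroup G) := (mem_normalizer_iff.mp (hTN ht) r).mp hrR
      rw [← zpowers_eq_of_prime hR hrR hr1, ← mem_powers_iff_mem_zpowers] at h1
      obtain ⟨k, hk⟩ := h1
      simp only at hk
      have h2 : r = r ^ (k * k) := by
        calc r = t * (t * r * t⁻¹) * t⁻¹ := by
              rw [show t⁻¹ = t from inv_eq_of_mul_eq_one_right htt]
              simp only [mul_assoc, htt, mul_one]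
              rw [← mul_assoc, htt, one_mul]
          _ = (t * r * t⁻¹) ^ k := by rw [conj_pow, hk]
          _ = r ^ (k * k) := by rw [← hk, ← pow_mul]
      rw [pow_mul] at h2
      have h3 : (k * k) % 5 = 1 := by
        have h2' : r ^ 1 = r ^ (k * k) := by rw [pow_one, pow_mul]; exact h2
        have h4 := pow_eq_pow_iff_modEq.mp h2'
        rw [hr] at h4
        exact h4.symm
      have h4 : k % 5 = 1 ∨ k % 5 = 4 := by
        have h5' := Nat.mod_lt k (show 5 > 0 by norm_num)
        rw [Nat.mul_mod] at h3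
        generalize k % 5 = j at h3 h5' ⊢
        interval_cases j <;> first | decide | exact absurd h3 (by decide)
      rw [pow_eq_pow_iff_modEq.mpr (show k ≡ k % 5 [MOD orderOf r] by
        rw [hr]; exact (Nat.mod_modEq k 5).symm)] at hk
      rcases h4 with h4 | h4 <;> rw [h4] at hk
      · left
        rw [pow_one] at hk
        exact mul_inv_eq_iff_eq_mul.mp hk.symm
      · right
        rw [show r ^ 4 = r⁻¹ from eq_inv_of_mul_eq_one_left (by
          rw [← pow_succ, show 4 + 1 = orderOf r by rw [hr]]; exact pow_orderOf_eq_one r)] at hk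
        exact mul_inv_eq_iff_eq_mul.mp hk.symm
    have hord : ∀ t ∈ (T : Subgroup G), t ≠ 1 → orderOf t = 2 := fun t ht ht1 =>
      orderOf_eq_prime ((pow_two t).trans (congrArg Subtype.val
        (IsKleinFour.mul_self (⟨t, ht⟩ : (T : Subgroup G))))) ht1
    haveI : Nontrivial (T : Subgroup G) := Finite.one_lt_card_iff_nontrivial.mp
      (by rw [hTc]; norm_num)
    obtain ⟨⟨a, ha⟩, hane⟩ := exists_ne (1 : (T : Subgroup G))
    have ha1 : a ≠ 1 := fun e => hane (Subtype.ext e)
    obtain ⟨b, hbT, hb⟩ : ∃ b ∈ (T : Subgroup G), b ∉ ({1, a} : Set G) := by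
      by_contra hc
      push Not at hc
      have h1 := Set.ncard_le_ncard (s := ((T : Subgroup G) : Set G)) (t := {1, a}) hc
      have h2 : ({1, a} : Set G).ncard ≤ 2 := (Set.ncard_insert_le _ _).trans (by simp)
      rw [← Nat.card_coe_set_eq] at h1
      change Nat.card (T : Subgroup G) ≤ _ at h1
      omega
    simp only [Set.mem_insert_iff, Set.mem_singleton_iff, not_or] at hb
    rcases hconj a ha with hca | hca
    · exact ⟨a, hord a ha ha1, hca.symm⟩
    rcases hconj b hbT with hcb | hcb
    · exact ⟨b, hord b hbT hb.1, hcb.symm⟩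
    refine ⟨a * b, hord _ (mul_mem ha hbT) ?_, ?_⟩
    · intro e
      have h1 := hord a ha ha1
      have haa : a * a = 1 := congrArg Subtype.val
        (IsKleinFour.mul_self (⟨a, ha⟩ : (T : Subgroup G)))
      exact hb.2 (mul_left_cancel (e.trans haa.symm))
    · have hca' : a * r⁻¹ = r * a := by
        rw [mul_inv_eq_iff_eq_mul, mul_assoc, hca, mul_inv_cancel_left]
      calc r * (a * b) = r * a * b := (mul_assoc _ _ _).symm
        _ = a * (r⁻¹ * b) := by rw [← hca', mul_assoc]
        _ = a * b * r := by rw [← hcb, mul_assoc]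
  exact false_of_commute_five hG hidx hNP5 hr hu huc

theorem card_ne_756 (hG : ¬ IsMulCommutative G) : Nat.card G ≠ 756 := by
  intro hn
  haveI : Fact (Nat.Prime 3) := ⟨by norm_num⟩
  have h3 := okNum_mem hG (q := 3) (a := 3) (m := 28) hn (by norm_num) (by norm_num) (by norm_num)
  rw [show (Nat.divisors 28).filter (fun d => d % 3 = 1 ∧ okNum 756 3 3 d = true) = {28} by
    decide +kernel, Finset.mem_singleton] at h3
  have P : Sylow 3 G := default
  have hP : Nat.card (P : Subgroup G) = 3 ^ 3 :=
    card_sylow_eq P (k := 3) (m := 28) hn (by norm_num)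
  have hN : normalizer ((P : Subgroup G) : Set G) = (P : Subgroup G) := by
    refine (Subgroup.eq_of_le_of_card_ge le_normalizer ?_).symm
    have := card_normalizer_sylow_mul P
    rw [h3, hn] at this
    rw [hP]
    omega
  haveI : Nontrivial (P : Subgroup G) := Finite.one_lt_card_iff_nontrivial.mp (by rw [hP]; norm_num)
  have hclass : ∀ u v : (P : Subgroup G), u⁻¹ * v⁻¹ * u * v ∈ center (P : Subgroup G) := by
    have hc := (center (P : Subgroup G)).card_mul_index
    obtain ⟨k, hk⟩ := P.2.index (center (P : Subgroup G))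
    obtain ⟨j, hj⟩ := (P.2.to_subgroup (center (P : Subgroup G))).exists_card_eq
    have hj0 : j ≠ 0 := by
      rintro rfl
      have := P.2.center_nontrivial
      have h1 : 1 < Nat.card (center (P : Subgroup G)) := Finite.one_lt_card
      rw [hj, pow_zero] at h1
      omega
    rw [hk, hj, hP, ← pow_add] at hc
    have hjk := Nat.pow_right_injective (le_refl 2 |>.trans (by norm_num : 2 ≤ 3)) hc
    have hcomm : ∀ x y : (P : Subgroup G) ⧸ center (P : Subgroup G), x * y = y * x := by
      rw [index_eq_card] at hk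
      have hk2 : k = 0 ∨ k = 1 ∨ k = 2 := by omega
      rcases hk2 with rfl | rfl | rfl
      · haveI := (Nat.card_eq_one_iff_unique.mp hk).1
        exact fun x y => Subsingleton.elim _ _
      · rw [pow_one] at hk
        haveI := isCyclic_of_prime_card hk
        exact fun x y => IsMulCommutative.is_comm.comm x y
      · exact IsPGroup.commutative_of_card_eq_prime_sq hk
    intro u v
    rw [← QuotientGroup.eq_one_iff]
    rw [QuotientGroup.mk_mul, QuotientGroup.mk_mul, QuotientGroup.mk_mul, QuotientGroup.mk_inv,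
      QuotientGroup.mk_inv, hcomm (↑u)⁻¹ (↑v)⁻¹]
    group
  have hweak : Cfsg.IsWeaklyClosed (P : Subgroup G) (P : Subgroup G) :=
    ⟨le_rfl, fun g hg => Subgroup.eq_of_le_of_card_ge hg
      (by rw [Subgroup.card_map_of_injective (MulEquiv.injective (MulAut.conj g))])⟩
  have h := HallWielandt.pResidualOf_normalizer_eq P hweak (by
    intro u hu z hz
    show (fun y : G => y⁻¹ * z⁻¹ * y * z)^[2] u = 1
    simp only [Function.iterate_succ, Function.iterate_zero, Function.comp_apply, id_eq]
    have h1 := Subgroup.mem_center_iff.mp (hclass ⟨u, hu⟩ ⟨z, hz⟩) ⟨z, hz⟩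
    have h2 : z * (u⁻¹ * z⁻¹ * u * z) = u⁻¹ * z⁻¹ * u * z * z := congrArg Subtype.val h1
    generalize u⁻¹ * z⁻¹ * u * z = c at h2 ⊢
    rw [mul_assoc (c⁻¹ * z⁻¹), ← h2]
    group)
  rw [hN] at h
  have hbot : Cfsg.pResidualOf 3 (P : Subgroup G) = ⊥ := by
    rw [Cfsg.pResidualOf, Transfer.pResidual_eq_bot_of_isPGroup P.2, Subgroup.map_bot]
  have htop : Cfsg.pResidual 3 G = ⊤ := by
    rcases (Transfer.pResidual_normal (G := G) (p := 3)).eq_bot_or_eq_top with hb | ht
    · exfalso
      haveI : Fact (Nat.Prime 7) := ⟨by norm_num⟩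
      obtain ⟨x, hx⟩ := exists_prime_orderOf_dvd_card' (G := G) 7 (by rw [hn]; norm_num)
      have hm : x ∈ Cfsg.pResidual 3 G := Subgroup.subset_closure (show Nat.Coprime (orderOf x) 3 by
        rw [hx]; norm_num)
      rw [hb, Subgroup.mem_bot] at hm
      rw [hm, orderOf_one] at hx
      norm_num at hx
    · exact ht
  rw [htop, top_inf_eq, hbot] at h
  exact P.ne_bot_of_dvd_card (by rw [hn]; norm_num) h.symm

end Cfsg.Agent.Lib.SmallGroups.Below1092
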