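/-
No simple group has order 720.
-/
import Mathlib
import Cfsg.Agent.Lib.SmallGroups.Below1092.Small

set_option autoImplicit false
set_option linter.style.haveILetI false

namespace Cfsg.Agent.Lib.SmallGroups.Below1092

open Subgroup MulAction

variable {G : Type*} [Group G] [Finite G] [IsSimpleGroup G]

theorem no_index_le_five (hG : ¬ IsMulCommutative G) (hn : Nat.card G = 720) {M : Subgroup G}
    (hM : M ≠ ⊤) : 5 < M.index := by
  have h := two_mul_card_dvd_factorial hG hM
  rw [hn] at h
  have hpos : M.index ≠ 0 := Subgroup.index_ne_zero_of_finite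
  by_contra hc
  push Not at hc
  interval_cases hi : M.index <;> norm_num [Nat.factorial] at h

/-- An element of an abelian Sylow subgroup commuting with its normalizer is trivial. -/
theorem eq_one_of_commute_normalizer (hG : ¬ IsMulCommutative G) {p : ℕ} [Fact p.Prime]
    (S : Sylow p G) [hS : IsMulCommutative (S : Subgroup G)] {y : G} (hy : y ∈ (S : Subgroup G))
    (hN : ∀ n ∈ normalizer ((S : Subgroup G) : Set G), n * y = y * n) : y = 1 := by
  letI : CommGroup (S : Subgroup G) :=
    { (inferInstance : Group (S : Subgroup G)) with mul_comm := hS.1.1 }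
  have key : ∀ (k : ℕ) (g₀ : G), g₀⁻¹ * y ^ k * g₀ ∈ (S : Subgroup G) →
      g₀⁻¹ * y ^ k * g₀ = y ^ k := by
    intro k g₀ h
    obtain ⟨n, hn, e⟩ := S.conj_eq_normalizer_conj_of_mem (_hP := hS) (y ^ k) g₀ (pow_mem hy k) h
    rw [e]
    have hc : Commute n y := hN n hn
    rw [mul_assoc, ← (hc.pow_right k).eq, inv_mul_cancel_left]
  have h1 := MonoidHom.transfer_eq_pow (MonoidHom.id (S : Subgroup G)) y key
  rw [hom_commGroup_eq_one hG _ y] at h1
  have h2 : y ^ (S : Subgroup G).index = 1 := (congrArg Subtype.val h1).symm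
  obtain ⟨j, hj⟩ := S.2.exists_card_eq
  have h3 : y ^ Nat.card (S : Subgroup G) = 1 :=
    congrArg Subtype.val (pow_card_eq_one' (x := (⟨y, hy⟩ : (S : Subgroup G))))
  have hcop : (Nat.card (S : Subgroup G)).Coprime (S : Subgroup G).index :=
    hj ▸ Nat.Coprime.pow_left j ((Fact.out : p.Prime).coprime_iff_not_dvd.mpr S.not_dvd_index)
  exact orderOf_eq_one_iff.mp (Nat.eq_one_of_dvd_one (hcop ▸
    Nat.dvd_gcd (orderOf_dvd_of_pow_eq_one h3) (orderOf_dvd_of_pow_eq_one h2)))

/-- No element of order 3 of a subgroup of order 72 commutes with a subgroup of order 4 there. -/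
theorem false_of_four_centralizer (hG : ¬ IsMulCommutative G) (hn : Nat.card G = 720)
    {H : Subgroup G} (hH : Nat.card H = 72) {y : G} (hyH : y ∈ H) (hy : orderOf y = 3)
    {K : Subgroup G} (hK : Nat.card K = 4) (hKH : K ≤ H) (hKc : ∀ k ∈ K, k * y = y * k) :
    False := by
  classical
  haveI : Fact (Nat.Prime 3) := ⟨Nat.prime_three⟩
  set X := G ⧸ H
  haveI := Fintype.ofFinite X
  have hHi : H.index = 10 := by have := H.card_mul_index; rw [hH, hn] at this; omega
  have hX : Fintype.card X = 10 := by rw [← Nat.card_eq_fintype_card]; exact hHi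
  have hHt : H ≠ ⊤ := fun e => by rw [e, index_top] at hHi; norm_num at hHi
  set a : X := QuotientGroup.mk 1 with ha
  have hstab : stabilizer G a = H := MulAction.stabilizer_quotient H
  have hfixa : ∀ h : H, (h : G) • a = a := fun h => mem_stabilizer_iff.mp (hstab.symm ▸ h.2)
  let Y := {x : X // x ≠ a}
  have hiff : ∀ (h : H) (x : X), MulAction.toPermHom G X (h : G) x ≠ a ↔ x ≠ a := fun h x => by
    show (h : G) • x ≠ a ↔ x ≠ a
    conv_lhs => rw [← hfixa h]
    exact (MulAction.injective (h : G)).ne_iff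
  let ρ : H →* Equiv.Perm Y :=
    { toFun := fun h => (MulAction.toPermHom G X (h : G)).subtypePerm (hiff h)
      map_one' := Equiv.ext fun x => Subtype.ext (one_smul G x.1)
      map_mul' := fun g h => Equiv.ext fun x => Subtype.ext (mul_smul (g : G) (h : G) x.1) }
  have hmove : ∀ (h : H) (x : X), MulAction.toPermHom G X (h : G) x ≠ x → x ≠ a := fun h x hx e =>
    hx (by subst e; exact hfixa h)
  have hof : ∀ h : H, Equiv.Perm.ofSubtype (ρ h) = MulAction.toPermHom G X (h : G) := fun h =>
    Equiv.Perm.ofSubtype_subtypePerm (hiff h) (hmove h)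
  have hinj : Function.Injective ρ := fun g h e =>
    Subtype.ext (toPermHom_injective hHt ((hof g).symm.trans ((congrArg _ e).trans (hof h))))
  have hsign : ∀ h : H, Equiv.Perm.sign (ρ h) = 1 := fun h =>
    (Equiv.Perm.sign_subtypePerm _ (hiff h) (hmove h)).trans (sign_toPerm hG X (h : G))
  have hY : Fintype.card Y = 9 := by
    show Fintype.card {x : X // ¬ x = a} = 9
    rw [Fintype.card_subtype_compl, Fintype.card_subtype_eq, hX]
  set τ := ρ ⟨y, hyH⟩ with hτ
  have hτo : orderOf τ = 3 := by
    rw [hτ, orderOf_injective ρ hinj, Subgroup.orderOf_mk, hy]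
  obtain ⟨m, hm⟩ := Equiv.Perm.cycleType_prime_order (σ := τ) (hτo.symm ▸ Nat.prime_three)
  rw [hτo] at hm
  have hsum := τ.sum_cycleType_le
  rw [hm, Multiset.sum_replicate, smul_eq_mul, hY] at hsum
  set K' := (K.subgroupOf H).map ρ with hK'
  have hKcard : Nat.card K' = 4 := by
    rw [hK', Subgroup.card_map_of_injective hinj, Nat.card_congr (subgroupOfEquivOfLe hKH).toEquiv, hK]
  have hKle : K' ≤ centralizer {τ} ⊓ alternatingGroup Y := by
    rintro _ ⟨k, hk, rfl⟩
    refine ⟨mem_centralizer_singleton_iff.mpr ?_, Equiv.Perm.mem_alternatingGroup.mpr (hsign k)⟩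
    rw [hτ, ← map_mul, ← map_mul]
    exact congrArg ρ (Subtype.ext (hKc _ hk))
  have hC := Equiv.Perm.nat_card_centralizer τ
  rw [hm, hY] at hC
  have hm2 : m ≤ 2 := by omega
  interval_cases m
  · -- a three-cycle in a primitive group
    have h3 : (MulAction.toPermHom G X y).IsThreeCycle := by
      show (MulAction.toPermHom G X y).cycleType = {3}
      rw [← hof ⟨y, hyH⟩, Equiv.Perm.cycleType_ofSubtype, ← hτ, hm]
      rfl
    have hco : IsCoatom H := by
      refine ⟨hHt, fun M hM => by_contra fun hMt => ?_⟩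
      have h5 := no_index_le_five hG hn hMt
      have h1 := relIndex_mul_index hM.le
      have h2 : H.relIndex M ≠ 1 := fun e => hM.not_ge (relIndex_eq_one.mp e)
      rw [hHi] at h1
      have h0 : H.relIndex M ≠ 0 := fun e => by rw [e] at h1; norm_num at h1
      have : 2 * M.index ≤ 10 := h1 ▸ Nat.mul_le_mul_right _ (by omega)
      omega
    haveI : Nontrivial X := Fintype.one_lt_card_iff_nontrivial.mp (by omega)
    haveI : IsPreprimitive G X := (isCoatom_stabilizer_iff_preprimitive G a).mp (by rw [hstab]; exact hco)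
    have hprim : IsPreprimitive (MulAction.toPermHom G X).range X :=
      IsPreprimitive.of_surjective (φ := (MulAction.toPermHom G X).rangeRestrict)
        (f := ({ toFun := id, map_smul' := fun _ _ => rfl } :
          X →ₑ[(MulAction.toPermHom G X).rangeRestrict] X)) Function.surjective_id
    have hle := Equiv.Perm.alternatingGroup_le_of_isPreprimitive_of_isThreeCycle_mem hprim h3 ⟨y, rfl⟩
    have h4 := card_le_of_le hle
    have h6 : Nat.card (MulAction.toPermHom G X).range ≤ 720 := hn ▸
      Nat.le_of_dvd Nat.card_pos (Subgroup.card_range_dvd (MulAction.toPermHom G X))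
    have h7 : 2 * Nat.card (alternatingGroup X) = Nat.factorial 10 := by
      rw [two_mul_nat_card_alternatingGroup, Nat.card_perm, Nat.card_eq_fintype_card, hX]
    rw [show Nat.factorial 10 = 3628800 by decide] at h7
    omega
  · -- two orbits of length three
    have hC' : Nat.card (centralizer ({τ} : Set (Equiv.Perm Y))) = 108 := by rw [hC]; decide
    obtain ⟨p, q, hpq, hp, hq⟩ : ∃ p q : Y, p ≠ q ∧ τ p = p ∧ τ q = q := by
      have hs : τ.support.card = 6 := by
        rw [← Equiv.Perm.sum_cycleType, hm]; rfl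
      have : 1 < τ.supportᶜ.card := by rw [Finset.card_compl, hY, hs]; norm_num
      obtain ⟨p, hp, q, hq, hpq⟩ := Finset.one_lt_card.mp this
      exact ⟨p, q, hpq, by simpa using hp, by simpa using hq⟩
    have hswap : Equiv.swap p q ∈ centralizer ({τ} : Set (Equiv.Perm Y)) := by
      rw [mem_centralizer_singleton_iff]
      refine (Equiv.Perm.Disjoint.commute fun x => ?_).eq
      by_cases hx : x = p ∨ x = q
      · right; rcases hx with rfl | rfl <;> assumption
      · push Not at hx
        exact Or.inl (Equiv.swap_apply_of_ne_of_ne hx.1 hx.2)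
    haveI : Nontrivial Y := ⟨p, q, hpq⟩
    have hr : (alternatingGroup Y).relIndex (centralizer {τ}) = 2 := by
      have hd : (alternatingGroup Y).relIndex (centralizer {τ}) ∣ 2 := by
        have := relIndex_dvd_index_of_normal (alternatingGroup Y) (centralizer {τ})
        rwa [alternatingGroup.index_eq_two] at this
      refine ((Nat.dvd_prime Nat.prime_two).mp hd).resolve_left fun e => ?_
      have := Equiv.Perm.mem_alternatingGroup.mp (relIndex_eq_one.mp e hswap)
      rw [Equiv.Perm.sign_swap hpq] at this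
      exact absurd this (by decide)
    have h1 := relIndex_mul_relIndex ⊥ (centralizer {τ} ⊓ alternatingGroup Y)
      (centralizer {τ}) bot_le inf_le_left
    rw [relIndex_bot_left, relIndex_bot_left, inf_relIndex_left, hr] at h1
    have h2 := card_dvd_of_le hKle
    rw [hKcard] at h2
    omega
  · -- three orbits of length three
    have hC' : Nat.card (centralizer ({τ} : Set (Equiv.Perm Y))) = 162 := by rw [hC]; decide
    have h2 := card_dvd_of_le (hKle.trans inf_le_left)
    rw [hKcard, hC'] at h2
    norm_num at h2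

/-- The configuration with ten Sylow 3-subgroups meeting trivially is impossible. -/
theorem false_of_trivial_inter (hG : ¬ IsMulCommutative G) (hn : Nat.card G = 720)
    (S : Sylow 3 G) (hH : Nat.card (normalizer ((S : Subgroup G) : Set G)) = 72)
    (hTI : ∀ R : Sylow 3 G, R ≠ S → (S : Subgroup G) ⊓ (R : Subgroup G) = ⊥) : False := by
  classical
  haveI : Fact (Nat.Prime 3) := ⟨Nat.prime_three⟩
  haveI : Fact (Nat.Prime 2) := ⟨Nat.prime_two⟩
  set H := normalizer ((S : Subgroup G) : Set G) with hHdef
  set X := G ⧸ H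
  haveI := Fintype.ofFinite X
  have hS : Nat.card (S : Subgroup G) = 9 :=
    card_sylow_eq S (k := 2) (m := 80) hn (by norm_num)
  haveI hSab : IsMulCommutative (S : Subgroup G) :=
    ⟨⟨IsPGroup.commutative_of_card_eq_prime_sq (p := 3) hS⟩⟩
  have hHi : H.index = 10 := by have := H.card_mul_index; rw [hH, hn] at this; omega
  have hX : Nat.card X = 10 := hHi
  have hHt : H ≠ ⊤ := fun e => by rw [e, index_top] at hHi; norm_num at hHi
  have hSH : (S : Subgroup G) ≤ H := le_normalizer
  set a : X := QuotientGroup.mk 1 with ha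
  have hstab : stabilizer G a = H := MulAction.stabilizer_quotient H
  have hfixa : ∀ {h : G}, h ∈ H → h • a = a := fun hh => mem_stabilizer_iff.mp (hstab.symm ▸ hh)
  have hfix : ∀ s ∈ (S : Subgroup G), s ≠ 1 → ∀ x : X, s • x = x → x = a := by
    intro s hs hs1 x
    induction x using QuotientGroup.induction_on with | _ g =>
    intro hx
    rw [MulAction.Quotient.smul_mk, QuotientGroup.eq, smul_eq_mul, mul_inv_rev] at hx
    have hx' : g⁻¹ * s * g ∈ H := by
      have := inv_mem hx
      simpa [mul_assoc] using this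
    have hgS : g⁻¹ * s * g ∈ (S : Subgroup G) := by
      have hp : IsPGroup 3 (zpowers (g⁻¹ * s * g)) :=
        (S.2.to_le (zpowers_le.mpr hs)).map (MulAut.conj g⁻¹).toMonoidHom
          |>.to_le (zpowers_le.mpr ⟨s, mem_zpowers _, by simp⟩)
      have hm : g⁻¹ * s * g ∈ zpowers (g⁻¹ * s * g) ⊓ H := ⟨mem_zpowers _, hx'⟩
      exact ((hp.inf_normalizer_sylow S).le hm).2
    have hgS' : s ∈ ((g • S : Sylow 3 G) : Subgroup G) := by
      rw [Sylow.coe_subgroup_smul]
      exact ⟨g⁻¹ * s * g, hgS, by simp [MulAut.smul_def, mul_assoc]⟩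
    have hg : g • S = S := by
      by_contra hne
      have := hTI _ hne
      exact hs1 (Subgroup.mem_bot.mp (this ▸ ⟨hs, hgS'⟩))
    rw [Sylow.smul_eq_iff_mem_normalizer] at hg
    rw [ha, QuotientGroup.eq, mul_one]
    exact inv_mem hg
  have hnorm : ∀ {h : G}, h ∈ H → ∀ {s : G}, s ∈ (S : Subgroup G) → h * s * h⁻¹ ∈ (S : Subgroup G) :=
    fun {h} hh {s} hs => (mem_normalizer_iff.mp hh s).mp hs
  -- regularity
  have hinj : ∀ {b : X}, b ≠ a → ∀ s ∈ (S : Subgroup G), ∀ t ∈ (S : Subgroup G),
      s • b = t • b → s = t := by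
    intro b hb s hs t ht e
    by_contra hne
    exact hb (hfix (t⁻¹ * s) (mul_mem (inv_mem ht) hs)
      (fun h => hne (inv_mul_eq_one.mp h).symm) b (by rw [mul_smul, e, inv_smul_smul]))
  have hsurj : ∀ {b : X}, b ≠ a → ∀ x : X, x ≠ a → ∃ s ∈ (S : Subgroup G), s • b = x := by
    intro b hb x hx
    let f : ↥(S : Subgroup G) → {x : X // x ≠ a} := fun s => ⟨(s : G) • b, fun e => hb
      (MulAction.injective (s : G) (e.trans (hfixa (hSH s.2)).symm))⟩
    have hf : Function.Bijective f := by
      refine (Nat.bijective_iff_injective_and_card f).mpr ⟨fun s t e =>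
        Subtype.ext (hinj hb _ s.2 _ t.2 (congrArg Subtype.val e)), ?_⟩
      show Nat.card (S : Subgroup G) = Nat.card {x : X // ¬ x = a}
      rw [hS, Nat.card_eq_fintype_card, Fintype.card_subtype_compl, Fintype.card_subtype_eq,
        ← Nat.card_eq_fintype_card, hX]
    obtain ⟨s, hs⟩ := hf.2 ⟨x, hx⟩
    exact ⟨s, s.2, congrArg Subtype.val hs⟩
  have htriv : ∀ {b : X}, b ≠ a → ∀ h ∈ H, h • b = b →
      (∀ s ∈ (S : Subgroup G), h * s = s * h) → h = 1 := by
    intro b hb h hh hhb hc
    refine toPermHom_injective hHt ?_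
    rw [map_one]
    refine Equiv.ext fun x => ?_
    show h • x = x
    by_cases hx : x = a
    · exact hx ▸ hfixa hh
    · obtain ⟨s, hs, rfl⟩ := hsurj hb x hx
      rw [smul_smul, hc s hs, ← smul_smul, hhb]
  -- an involution fixing `a` and `b` has exactly these fixed points and inverts `S`
  have hinv : ∀ {b : X}, b ≠ a → ∀ u ∈ H, orderOf u = 2 → u • b = b →
      (fixedBy X u).ncard = 2 ∧ ∀ s ∈ (S : Subgroup G), u * s * u⁻¹ = s⁻¹ := by
    intro b hb u hu huo hub
    set L := (S : Subgroup G) ⊓ centralizer {u} with hL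
    have hfix' : fixedBy X u = insert a ((fun s : G => s • b) '' (L : Set G)) := by
      ext x
      rw [mem_fixedBy, Set.mem_insert_iff]
      constructor
      · intro hx
        by_cases hxa : x = a
        · exact Or.inl hxa
        · right
          obtain ⟨s, hs, rfl⟩ := hsurj hb x hxa
          refine ⟨s, ⟨hs, mem_centralizer_singleton_iff.mpr ?_⟩, rfl⟩
          have h1 : (u * s * u⁻¹) • b = s • b := by
            rw [mul_smul, mul_smul, show u⁻¹ • b = b by rw [inv_smul_eq_iff, hub]]
            exact hx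
          have h2 := hinj hb _ (hnorm hu hs) s hs h1
          exact (mul_inv_eq_iff_eq_mul.mp h2).symm
      · rintro (rfl | ⟨s, ⟨hs, hsc⟩, rfl⟩)
        · exact hfixa hu
        · have hc : s * u = u * s := mem_centralizer_singleton_iff.mp hsc
          rw [smul_smul, ← hc, ← smul_smul, hub]
    have hncard : (fixedBy X u).ncard = Nat.card L + 1 := by
      rw [hfix', Set.ncard_insert_of_notMem ?_, Set.InjOn.ncard_image ?_, ← Nat.card_coe_set_eq]
      · rfl
      · exact fun s hs t ht e => hinj hb s hs.1 t ht.1 e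
      · rintro ⟨s, hs, e⟩
        exact hb (MulAction.injective s (e.trans (hfixa (hSH hs.1)).symm))
    have hdvd : Nat.card L ∣ 9 := hS ▸ card_dvd_of_le inf_le_left
    have h4 := card_fixedBy_mod_four hG (X := X) huo
    rw [hX, Nat.card_coe_set_eq, hncard] at h4
    have h9 : Nat.card L = 1 ∨ Nat.card L = 9 := by
      have := Nat.le_of_dvd (by norm_num) hdvd
      interval_cases h : Nat.card L <;> first | omega | norm_num at hdvd
    rcases h9 with h9 | h9
    · refine ⟨by omega, fun s hs => ?_⟩
      have huu : u * u = 1 := by rw [← pow_two, ← huo, pow_orderOf_eq_one]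
      have hui : u⁻¹ = u := inv_eq_of_mul_eq_one_right huu
      have ht : s * (u * s * u⁻¹) ∈ L := by
        refine ⟨mul_mem hs (hnorm hu hs), mem_centralizer_singleton_iff.mpr ?_⟩
        have e : u * s * u⁻¹ * s = s * (u * s * u⁻¹) :=
          congrArg Subtype.val (hSab.1.1 ⟨_, hnorm hu hs⟩ ⟨s, hs⟩)
        rw [hui] at e ⊢
        calc s * (u * s * u) * u = u * s * u * s * u := by rw [e]
          _ = u * (s * (u * s * u)) := by simp only [mul_assoc]
      rw [Subgroup.card_eq_one.mp h9, Subgroup.mem_bot] at ht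
      exact eq_inv_of_mul_eq_one_right ht
    · exfalso
      have hall : fixedBy X u = Set.univ :=
        Set.eq_of_subset_of_ncard_le (Set.subset_univ _)
          (by rw [Set.ncard_univ, hX, hncard, h9])
      have h1 : u = 1 := toPermHom_injective hHt (by
        rw [map_one]
        refine Equiv.ext fun x => ?_
        have hx : x ∈ fixedBy X u := by rw [hall]; trivial
        exact hx)
      rw [h1, orderOf_one] at huo
      norm_num at huo
  have htwo : ∀ u : G, orderOf u = 2 → (fixedBy X u).ncard = 2 := by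
    intro u hu
    have h4 := card_fixedBy_mod_four hG (X := X) hu
    rw [hX, Nat.card_coe_set_eq] at h4
    obtain ⟨p, hp⟩ := Set.nonempty_of_ncard_ne_zero (s := fixedBy X u) (by omega)
    obtain ⟨g, hg⟩ := MulAction.exists_smul_eq G p a
    have hfa : (g * u * g⁻¹) • a = a := by
      rw [← hg, mul_smul, mul_smul, inv_smul_smul, mem_fixedBy.mp hp]
    have hord : orderOf (g * u * g⁻¹) = 2 := by
      rw [← MulAut.conj_apply, (MulAut.conj g).orderOf_eq u, hu]
    have hnc : (fixedBy X (g * u * g⁻¹)).ncard = (fixedBy X u).ncard := by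
      rw [← smul_fixedBy X u g]
      exact Set.ncard_image_of_injective _ (MulAction.injective g)
    obtain ⟨b, hb, hba⟩ := Set.exists_ne_of_one_lt_ncard
      (s := fixedBy X (g * u * g⁻¹)) (by omega) a
    rw [← hnc]
    exact (hinv hba _ (hstab ▸ mem_stabilizer_iff.mpr hfa) hord hb).1
  -- the two point stabilizer
  obtain ⟨b, hb⟩ : ∃ b : X, b ≠ a := by
    haveI : Nontrivial X := Finite.one_lt_card_iff_nontrivial.mp (by omega)
    exact exists_ne a
  set Q := H ⊓ stabilizer G b with hQdef
  have horb : orbit H b = {x : X | x ≠ a} := by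
    ext x
    constructor
    · rintro ⟨h, rfl⟩ e
      exact hb (MulAction.injective (h : G) (e.trans (hfixa h.2).symm))
    · intro hx
      obtain ⟨s, hs, rfl⟩ := hsurj hb x hx
      exact ⟨⟨s, hSH hs⟩, rfl⟩
  have hQ : Nat.card Q = 8 := by
    have h1 := (stabilizer H b).card_mul_index
    rw [MulAction.index_stabilizer, horb, hH] at h1
    have h2 : ({x : X | x ≠ a}).ncard = 9 := by
      rw [show {x : X | x ≠ a} = ({a} : Set X)ᶜ from rfl, Set.ncard_compl, hX, Set.ncard_singleton]
    rw [h2] at h1
    have h3 : Nat.card Q = Nat.card (stabilizer H b) :=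
      Nat.card_congr ⟨fun q => ⟨⟨q.1, q.2.1⟩, q.2.2⟩, fun q => ⟨q.1.1, q.1.2, q.2⟩,
        fun q => rfl, fun q => rfl⟩
    omega
  obtain ⟨⟨z, hzQ⟩, hz⟩ := exists_prime_orderOf_dvd_card' (G := Q) 2 (by rw [hQ]; norm_num)
  rw [Subgroup.orderOf_mk] at hz
  have hz1 : z ≠ 1 := fun e => by rw [e, orderOf_one] at hz; norm_num at hz
  have huniq : ∀ u ∈ Q, orderOf u = 2 → u = z := by
    intro u hu huo
    have h1 := (hinv hb u hu.1 huo hu.2).2
    have h2 := (hinv hb z hzQ.1 hz hzQ.2).2
    have hzz : z * z = 1 := by rw [← pow_two, ← hz, pow_orderOf_eq_one]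
    have h3 : u * z = 1 := by
      refine htriv hb _ (mul_mem hu.1 hzQ.1) ?_ fun s hs => ?_
      · rw [mul_smul, show z • b = b from hzQ.2, show u • b = b from hu.2]
      · have hc : u * (z * s * z⁻¹) * u⁻¹ = s := by
          rw [h2 s hs, h1 _ (inv_mem hs), inv_inv]
        calc u * z * s = (u * (z * s * z⁻¹) * u⁻¹) * (u * z) := by group
          _ = s * (u * z) := by rw [hc]
    exact (eq_inv_of_mul_eq_one_left h3).trans (inv_eq_of_mul_eq_one_right hzz)
  have hfixz : ∀ x : X, z • x = x → x = a ∨ x = b := by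
    intro x hx
    by_contra hne
    push Not at hne
    have hsub : ({a, b, x} : Set X) ⊆ fixedBy X z := by
      rintro w (rfl | rfl | rfl)
      exacts [hfixa hzQ.1, hzQ.2, hx]
    have h3 : ({a, b, x} : Set X).ncard = 3 := Set.ncard_eq_three.mpr
      ⟨a, b, x, fun e => hb e.symm, fun e => hne.1 e.symm, fun e => hne.2 e.symm, rfl⟩
    have := Set.ncard_le_ncard hsub
    rw [h3, htwo z hz] at this
    omega
  have height : ∀ q ∈ Q, orderOf q ≠ 8 := by
    intro q hq hq8
    set σ := MulAction.toPermHom G X q with hσ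
    have hσo : orderOf σ = 8 := by rw [hσ, orderOf_injective _ (toPermHom_injective hHt), hq8]
    have hsupp : σ.support ⊆ ({a, b} : Finset X)ᶜ := by
      intro x hx
      rw [Finset.mem_compl, Finset.mem_insert, Finset.mem_singleton]
      rw [Equiv.Perm.mem_support] at hx
      rintro (rfl | rfl)
      exacts [hx (hfixa hq.1), hx hq.2]
    have hle : σ.cycleType.sum ≤ 8 := by
      rw [Equiv.Perm.sum_cycleType]
      refine (Finset.card_le_card hsupp).trans ?_
      rw [Finset.card_compl, Finset.card_pair hb.symm, ← Nat.card_eq_fintype_card, hX]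
    have h8 : 8 ∈ σ.cycleType := by
      by_contra h8
      have h1 : σ.cycleType.lcm ∣ 4 := Multiset.lcm_dvd.mpr fun k hk => by
        have h2 : k ∣ 8 := hσo ▸ Equiv.Perm.dvd_of_mem_cycleType hk
        have h3 : k ≠ 8 := fun e => h8 (e ▸ hk)
        have h5 := Nat.le_of_dvd (by norm_num) h2
        interval_cases k <;> first | exact absurd rfl h3 | decide | exact absurd h2 (by decide)
      rw [Equiv.Perm.lcm_cycleType, hσo] at h1
      norm_num at h1
    obtain ⟨t, ht⟩ := Multiset.exists_cons_of_mem h8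
    have ht0 : t = 0 := by
      by_contra htne
      obtain ⟨k, hk⟩ := Multiset.exists_mem_of_ne_zero htne
      have h2 := Equiv.Perm.two_le_of_mem_cycleType (σ := σ) (ht ▸ Multiset.mem_cons_of_mem hk)
      rw [ht, Multiset.sum_cons] at hle
      have := Multiset.le_sum_of_mem hk
      omega
    have hs := sign_toPerm hG X q
    rw [← hσ, Equiv.Perm.sign_of_cycleType, ht, ht0] at hs
    exact absurd hs (by decide)
  have hfour : ∀ q ∈ Q, q ≠ 1 → q ≠ z → q * q = z := by
    intro q hq hq1 hqz
    have hd : orderOf q ∣ 8 := by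
      rw [← hQ, ← orderOf_mk (H := Q) q hq]
      exact orderOf_dvd_natCard _
    have h8 := height q hq
    have hle := Nat.le_of_dvd (by norm_num) hd
    have h4 : orderOf q = 4 := by
      have hne1 : orderOf q ≠ 1 := fun e => hq1 (orderOf_eq_one_iff.mp e)
      have hne2 : orderOf q ≠ 2 := fun e => hqz (huniq q hq e)
      interval_cases h : orderOf q <;> first | omega | norm_num at hd
    refine huniq _ (mul_mem hq hq) ?_
    rw [← pow_two, orderOf_pow, h4]
    rfl
  -- the centralizer of `z`
  obtain ⟨T, hQT⟩ := (IsPGroup.of_card (p := 2) (n := 3) hQ).exists_le_sylow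
  have hT : Nat.card (T : Subgroup G) = 16 :=
    card_sylow_eq T (k := 4) (m := 45) hn (by norm_num)
  have hQi : (Q.subgroupOf (T : Subgroup G)).index = 2 := by
    have := (Q.subgroupOf (T : Subgroup G)).card_mul_index
    rw [Nat.card_congr (subgroupOfEquivOfLe hQT).toEquiv, hQ, hT] at this
    omega
  haveI hQn : (Q.subgroupOf (T : Subgroup G)).Normal := normal_of_index_eq_two hQi
  have hTz : ∀ t ∈ (T : Subgroup G), t * z = z * t := by
    intro t ht
    have hm : t * z * t⁻¹ ∈ Q := hQn.conj_mem ⟨z, hQT hzQ⟩ hzQ ⟨t, ht⟩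
    have h2 := huniq _ hm (by rw [← MulAut.conj_apply, (MulAut.conj t).orderOf_eq z, hz])
    exact mul_inv_eq_iff_eq_mul.mp h2
  set C := centralizer ({z} : Set G) with hC
  have hCswap : ∀ c ∈ C, c • a = a ∨ c • a = b := fun c hc => hfixz _ (by
    rw [smul_smul, (mem_centralizer_singleton_iff.mp hc).symm, ← smul_smul, hfixa hzQ.1])
  have hCQ : C ⊓ H ≤ Q := by
    rintro c ⟨hc, hcH⟩
    refine ⟨hcH, mem_stabilizer_iff.mpr ?_⟩
    rcases hfixz (c • b) (by
      rw [smul_smul, (mem_centralizer_singleton_iff.mp hc).symm, ← smul_smul,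
        show z • b = b from hzQ.2]) with h | h
    · exact absurd (MulAction.injective c (h.trans (hfixa hcH).symm)) hb
    · exact h
  have hCT : C = (T : Subgroup G) := by
    refine (Subgroup.eq_of_le_of_card_ge (fun t ht => mem_centralizer_singleton_iff.mpr (hTz t ht)) ?_).symm
    have h1 := (stabilizer C a).card_mul_index
    have h2 : (stabilizer C a).index ≤ 2 := by
      rw [MulAction.index_stabilizer]
      refine (Set.ncard_le_ncard (t := ({a, b} : Set X)) ?_).trans ((Set.ncard_insert_le _ _).trans (by simp))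
      rintro _ ⟨c, rfl⟩
      exact hCswap c c.2
    have h3 : Nat.card (stabilizer C a) ≤ 8 := by
      rw [← hQ]
      refine Nat.card_le_card_of_injective
        (fun c => (⟨(c.1 : G), hCQ ⟨c.1.2, hstab.le (mem_stabilizer_iff.mpr
          (show (c.1 : G) • a = a from mem_stabilizer_iff.mp c.2))⟩⟩ : Q)) fun c d e =>
        Subtype.ext (Subtype.ext (congrArg (Subtype.val : Q → G) e))
    rw [hT, ← h1]
    exact Nat.mul_le_mul h3 h2
  have hout : ∀ t ∈ (T : Subgroup G), t ∉ Q → t • a = b := fun t ht htQ =>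
    (hCswap t (hCT.ge ht)).resolve_left fun h => htQ (hCQ ⟨hCT.ge ht, hstab.le (mem_stabilizer_iff.mpr h)⟩)
  have hA : ∀ w ∈ (T : Subgroup G), w ∉ Q → orderOf w = 2 → ∀ r ∈ Q, r ≠ 1 → r ≠ z →
      w * r ≠ r * w := by
    intro w hw hwQ hwo r hr hr1 hrz hc
    have h2 := htwo w hwo
    obtain ⟨p, hp⟩ := Set.nonempty_of_ncard_ne_zero (s := fixedBy X w) (by omega)
    rw [mem_fixedBy] at hp
    have hpa : p ≠ a := fun e => by
      rw [e, hout w hw hwQ] at hp
      exact hb hp
    have hpb : p ≠ b := fun e => by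
      rw [e] at hp
      exact hb (MulAction.injective w (hp.trans (hout w hw hwQ).symm))
    have hrr : r * r = z := hfour r hr hr1 hrz
    have hzp : z • p ≠ p := fun e => (hfixz p e).elim hpa hpb
    have hrp : r • p ≠ p := fun e => hzp (by rw [← hrr, mul_smul, e, e])
    have hsub : ({p, r • p, z • p} : Set X) ⊆ fixedBy X w := by
      rintro _ (rfl | rfl | rfl)
      · exact hp
      · rw [mem_fixedBy, smul_smul, hc, ← smul_smul, hp]
      · rw [mem_fixedBy, smul_smul, hTz w hw, ← smul_smul, hp]
    have h3 : ({p, r • p, z • p} : Set X).ncard = 3 := Set.ncard_eq_three.mpr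
      ⟨p, r • p, z • p, hrp.symm, hzp.symm, fun e => hrp
        (MulAction.injective r (show r • (r • p) = r • p by rw [← mul_smul, hrr]; exact e.symm)), rfl⟩
    have := Set.ncard_le_ncard hsub
    omega
  -- a subgroup of index two of `T` containing all involutions
  obtain ⟨D, hDT, hD8, hDinv⟩ : ∃ D : Subgroup G, D ≤ (T : Subgroup G) ∧ Nat.card D ≤ 8 ∧
      ∀ t ∈ (T : Subgroup G), orderOf t = 2 → t ∈ D := by
    by_cases hw : ∃ w ∈ (T : Subgroup G), w ∉ Q ∧ orderOf w = 2
    swap
    · exact ⟨Q, hQT, hQ.le, fun t ht hto => by_contra fun h => hw ⟨t, ht, h, hto⟩⟩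
    obtain ⟨w, hwT, hwQ, hwo⟩ := hw
    have hww : w * w = 1 := by rw [← pow_two, ← hwo, pow_orderOf_eq_one]
    have hzz : z * z = 1 := by rw [← pow_two, ← hz, pow_orderOf_eq_one]
    let J : G → Prop := fun q => q ∈ Q ∧ w * q * w = q⁻¹
    have hJz : J z := ⟨hzQ, by
      rw [hTz w hwT, mul_assoc, hww, mul_one, inv_eq_of_mul_eq_one_right hzz]⟩
    have hout2 : ∀ t ∈ (T : Subgroup G), orderOf t = 2 → t ∉ Q → J (w * t) := by
      intro t ht hto htQ
      have htt : t * t = 1 := by rw [← pow_two, ← hto, pow_orderOf_eq_one]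
      refine ⟨?_, ?_⟩
      · have := Subgroup.mul_mem_iff_of_index_two hQi
          (a := (⟨w, hwT⟩ : (T : Subgroup G))) (b := ⟨t, ht⟩)
        exact this.mpr (iff_of_false hwQ htQ)
      · rw [mul_inv_rev, inv_eq_of_mul_eq_one_right htt, inv_eq_of_mul_eq_one_right hww,
          ← mul_assoc, hww, one_mul]
    obtain ⟨i, hi, hicyc⟩ : ∃ i, J i ∧ z ∈ zpowers i ∧ Nat.card (zpowers i) ≤ 4 ∧
        ∀ q, J q → q ∈ zpowers i := by
      by_cases hJ : ∃ i, J i ∧ i ≠ 1 ∧ i ≠ z
      swap
      · push Not at hJ
        refine ⟨z, hJz, mem_zpowers z, by rw [Nat.card_zpowers, hz]; norm_num, fun q hq => ?_⟩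
        by_cases h1 : q = 1
        · exact h1 ▸ one_mem _
        · exact hJ q hq h1 ▸ mem_zpowers z
      obtain ⟨i, hi, hi1, hiz⟩ := hJ
      have hii : i * i = z := hfour i hi.1 hi1 hiz
      have hzi : z ∈ zpowers i := hii ▸ mul_mem (mem_zpowers i) (mem_zpowers i)
      refine ⟨i, hi, hzi, ?_, fun q hq => ?_⟩
      · rw [Nat.card_zpowers]
        refine orderOf_le_of_pow_eq_one (by norm_num) ?_
        rw [show (4 : ℕ) = 2 + 2 from rfl, pow_add, pow_two, hii, hzz]
      by_contra hqi
      have hq1 : q ≠ 1 := fun e => hqi (e ▸ one_mem _)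
      have hqz : q ≠ z := fun e => hqi (e ▸ hzi)
      have hqq : q * q = z := hfour q hq.1 hq1 hqz
      have hk1 : i * q ≠ 1 := fun e => hqi
        ((eq_inv_of_mul_eq_one_right e) ▸ inv_mem (mem_zpowers i))
      have hkz : i * q ≠ z := fun e => hqi
        (mul_left_cancel (e.trans hii.symm) ▸ mem_zpowers i)
      have hkQ : i * q ∈ Q := mul_mem hi.1 hq.1
      have hk : (q * i)⁻¹ = i * q := by
        refine inv_eq_of_mul_eq_one_right ?_
        calc q * i * (i * q) = q * (i * i) * q := by simp only [mul_assoc]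
          _ = q * (q * q) * q := by rw [hii, hqq]
          _ = (q * q) * (q * q) := by simp only [mul_assoc]
          _ = 1 := by rw [hqq, hzz]
      refine hA w hwT hwQ hwo (i * q) hkQ hk1 hkz ?_
      calc w * (i * q) = (w * i * w) * (w * q * w) * w := by
            simp only [mul_assoc, hww, mul_one]
            rw [← mul_assoc w w, hww, one_mul]
        _ = i * q * w := by rw [hi.2, hq.2, ← mul_inv_rev, hk]
    obtain ⟨hzi, hi4, hiall⟩ := hicyc
    have hwn : zpowers w ≤ normalizer ((zpowers i : Subgroup G) : Set G) := by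
      rw [zpowers_le]
      refine Transfer.map_conj_eq_iff.mp ?_
      rw [MonoidHom.map_zpowers]
      show zpowers (w * i * w⁻¹) = _
      rw [inv_eq_of_mul_eq_one_right hww, hi.2, Subgroup.zpowers_inv]
    refine ⟨zpowers i ⊔ zpowers w, sup_le (zpowers_le.mpr (hQT hi.1)) (zpowers_le.mpr hwT), ?_, ?_⟩
    · show Nat.card ((zpowers i ⊔ zpowers w : Subgroup G) : Set G) ≤ 8
      rw [coe_mul_of_right_le_normalizer_left _ _ hwn]
      refine Set.natCard_mul_le.trans ?_
      show Nat.card (zpowers i) * Nat.card (zpowers w) ≤ 8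
      rw [Nat.card_zpowers w, hwo]
      omega
    · intro t ht hto
      by_cases htQ : t ∈ Q
      · rw [huniq t htQ hto]
        exact mem_sup_left hzi
      · have h1 := hiall _ (hout2 t ht hto htQ)
        rw [show t = w * (w * t) by rw [← mul_assoc, hww, one_mul]]
        exact mul_mem (mem_sup_right (mem_zpowers w)) (mem_sup_left h1)
  obtain ⟨M, hM, hDM⟩ : ∃ M : Subgroup (T : Subgroup G), Nat.card M = 2 ^ 3 ∧
      D.subgroupOf (T : Subgroup G) ≤ M := by
    obtain ⟨k, hk⟩ := (T.2.to_subgroup (D.subgroupOf (T : Subgroup G))).exists_card_eq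
    refine Sylow.exists_subgroup_card_pow_prime_le 2 (by rw [hT]; norm_num) _ hk ?_
    rw [Nat.card_congr (subgroupOfEquivOfLe hDT).toEquiv] at hk
    by_contra hk3
    have := Nat.pow_le_pow_right (show 2 > 0 by norm_num) (show 4 ≤ k by omega)
    omega
  have hMi : M.index = 2 := by
    have := M.card_mul_index
    rw [hM, hT] at this
    omega
  haveI : M.Normal := normal_of_index_eq_two hMi
  let _ : CommGroup ((T : Subgroup G) ⧸ M) :=
    { (inferInstance : Group ((T : Subgroup G) ⧸ M)) with
      mul_comm := by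
        haveI : Fact (Nat.Prime 2) := ⟨Nat.prime_two⟩
        haveI := isCyclic_of_prime_card (α := (T : Subgroup G) ⧸ M) (p := 2) hMi
        exact fun x y => IsMulCommutative.is_comm.comm x y }
  obtain ⟨x, hx⟩ : ∃ x : (T : Subgroup G), x ∉ M := by
    by_contra hc
    push Not at hc
    rw [(Subgroup.eq_top_iff' M).mpr hc, index_top] at hMi
    norm_num at hMi
  haveI : Fintype (Quotient (orbitRel (zpowers (x : G)) (G ⧸ (T : Subgroup G)))) := Fintype.ofFinite _
  have hV := MonoidHom.transfer_eq_prod_quotient_orbitRel_zpowers_quot (QuotientGroup.mk' M) (x : G)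
  rw [hom_commGroup_eq_one hG] at hV
  have hpow : ∀ t ∈ (T : Subgroup G), t * t ≠ 1 → t ^ (orderOf t / 2) = z := by
    intro t ht ht2
    have htQ : t * t ∈ Q := Subgroup.mul_self_mem_of_index_two hQi (⟨t, ht⟩ : (T : Subgroup G))
    have hzz : z * z = 1 := by rw [← pow_two, ← hz, pow_orderOf_eq_one]
    by_cases h2 : t * t = z
    · have : orderOf t = 2 ^ (1 + 1) := orderOf_eq_prime_pow
        (by rw [pow_one, pow_two, h2]; exact hz1)
        (by rw [show 2 ^ (1 + 1) = 2 + 2 from rfl, pow_add, pow_two, h2, hzz])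
      rw [this]
      exact (pow_two t).trans h2
    · have h4 : t * t * (t * t) = z := hfour _ htQ ht2 h2
      have ht4 : t ^ 4 = z := by rw [show (4 : ℕ) = 2 + 2 from rfl, pow_add, pow_two, h4]
      have : orderOf t = 2 ^ (2 + 1) := orderOf_eq_prime_pow
        (by rw [show (2 : ℕ) ^ 2 = 4 from rfl, ht4]; exact hz1)
        (by rw [show (2 : ℕ) ^ (2 + 1) = 4 + 4 from rfl, pow_add, ht4, hzz])
      rw [this]
      exact ht4
  set base : G ⧸ (T : Subgroup G) := QuotientGroup.mk 1 with hbase
  have hxbase : (x : G) • base = base :=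
    mem_stabilizer_iff.mp ((MulAction.stabilizer_quotient (T : Subgroup G)).symm ▸ x.2)
  set q₀ : Quotient (orbitRel (zpowers (x : G)) (G ⧸ (T : Subgroup G))) := Quotient.mk'' base with hq₀
  have hq₀out : q₀.out = base := by
    have hm : q₀.out ∈ orbit (zpowers (x : G)) base := by
      rw [← orbitRel_apply, ← Quotient.eq'']
      exact Quotient.out_eq' q₀
    obtain ⟨⟨c, k, rfl⟩, hc⟩ := hm
    rw [← hc]
    exact zpow_mem (show (x : G) ∈ stabilizer G base from hxbase) k
  refine hx ((QuotientGroup.eq_one_iff x).mp ?_)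
  have hmem : ∀ (t : (T : Subgroup G)), (t : G) * t = 1 → QuotientGroup.mk' M t = 1 := by
    intro t ht
    refine (QuotientGroup.eq_one_iff t).mpr (hDM (mem_subgroupOf.mpr ?_))
    by_cases h1 : (t : G) = 1
    · rw [h1]; exact one_mem D
    · exact hDinv _ t.2 (orderOf_eq_prime (by rw [pow_two]; exact ht) h1)
  rw [Finset.prod_eq_single q₀ ?_ (fun h => absurd (Finset.mem_univ _) h)] at hV
  · have hper : Function.minimalPeriod ((x : G) • ·) q₀.out = 1 :=
      Function.minimalPeriod_eq_one_iff_isFixedPt.mpr (by rw [hq₀out]; exact hxbase)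
    have hout' : q₀.out.out ∈ (T : Subgroup G) := by
      have h1 : (QuotientGroup.mk q₀.out.out : G ⧸ (T : Subgroup G)) = QuotientGroup.mk 1 := by
        rw [QuotientGroup.out_eq', hq₀out]
      simpa using inv_mem (QuotientGroup.eq.mp h1)
    set c : (T : Subgroup G) := ⟨q₀.out.out, hout'⟩
    have h2 : QuotientGroup.mk' M (c⁻¹ * x * c) = 1 := by
      refine Eq.trans (congrArg _ (Subtype.ext ?_)) hV.symm
      simp [hper, c]
    rw [map_mul, map_mul, map_inv, mul_comm (QuotientGroup.mk' M c)⁻¹, inv_mul_cancel_right] at h2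
    exact h2
  · intro q _ hq
    set g := q.out.out with hg
    set l := Function.minimalPeriod ((x : G) • ·) q.out with hl
    have hT' : g⁻¹ * (x : G) ^ l * g ∈ (T : Subgroup G) :=
      QuotientGroup.out_conj_pow_minimalPeriod_mem _ (x : G) q.out
    refine hmem ⟨_, hT'⟩ (by_contra fun hne => hq ?_)
    set e := g⁻¹ * (x : G) ^ l * g with he
    have hee : e * e = g⁻¹ * ((x : G) ^ l * (x : G) ^ l) * g := by rw [he]; group
    have hxl : (x : G) ^ l * (x : G) ^ l ≠ 1 := fun h => hne (by
      show e * e = 1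
      rw [hee, h]; group)
    have h1 := hpow _ hT' hne
    have h2 := hpow _ (pow_mem x.2 l) hxl
    have ho : orderOf e = orderOf ((x : G) ^ l) := by
      rw [show e = MulAut.conj g⁻¹ ((x : G) ^ l) by simp [he]]
      exact (MulAut.conj g⁻¹).orderOf_eq _
    rw [ho, he] at h1
    rw [show (g⁻¹ * (x : G) ^ l * g) = g⁻¹ * (x : G) ^ l * g⁻¹⁻¹ by rw [inv_inv], conj_pow,
      h2, inv_inv] at h1
    have hgC : g ∈ (T : Subgroup G) := by
      rw [← hCT]
      refine mem_centralizer_singleton_iff.mpr ?_
      calc g * z = g * (g⁻¹ * z * g) := by rw [h1]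
        _ = z * g := by group
    have hqout : q.out = base := by
      rw [← QuotientGroup.out_eq' q.out, hbase, QuotientGroup.eq]
      simpa [hg] using hgC
    rw [hq₀, ← Quotient.out_eq' q, hqout]

/-- No simple group has order 720. -/
theorem card_ne_720 (hG : ¬ IsMulCommutative G) : Nat.card G ≠ 720 := by
  classical
  intro hn
  haveI : Fact (Nat.Prime 2) := ⟨Nat.prime_two⟩
  haveI : Fact (Nat.Prime 3) := ⟨Nat.prime_three⟩
  haveI : Fact (Nat.Prime 5) := ⟨by norm_num⟩
  have hself : ∀ x : G, orderOf x = 5 → centralizer ({x} : Set G) = zpowers x := fun x hx =>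
    Cfsg.Agent.S1001.result 5 2 4 (by norm_num) (by rw [hn]; norm_num) x hx
  have hfive : ∀ K : Subgroup G, 5 ∣ Nat.card K → ∀ y : G, orderOf y = 3 →
      ¬ K ≤ centralizer ({y} : Set G) := by
    intro K hK y hy hle
    obtain ⟨⟨c, hc⟩, hco⟩ := exists_prime_orderOf_dvd_card' (G := K) 5 hK
    rw [Subgroup.orderOf_mk] at hco
    have hyc : y ∈ centralizer ({c} : Set G) :=
      mem_centralizer_singleton_iff.mpr (mem_centralizer_singleton_iff.mp (hle hc)).symm
    rw [hself c hco] at hyc
    have := orderOf_dvd_of_mem_zpowers hyc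
    rw [hy, hco] at this
    norm_num at this
  have hord3 : ∀ {D : Subgroup G}, Nat.card D = 3 → ∃ y ∈ D, orderOf y = 3 := by
    intro D hD
    obtain ⟨⟨y, hy⟩, hyo⟩ := exists_prime_orderOf_dvd_card' (G := D) 3 (dvd_of_eq hD.symm)
    rw [Subgroup.orderOf_mk] at hyo
    exact ⟨y, hy, hyo⟩
  have h3 := okNum_mem hG (q := 3) (a := 2) (m := 80) hn (by norm_num) (by norm_num) two_ne_zero
  rw [show (Nat.divisors 80).filter (fun d => d % 3 = 1 ∧ okNum 720 3 2 d = true) = {10, 16, 40} by
    decide +kernel] at h3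
  simp only [Finset.mem_insert, Finset.mem_singleton] at h3
  have hS9 : ∀ S : Sylow 3 G, Nat.card (S : Subgroup G) = 9 := fun S =>
    card_sylow_eq S (k := 2) (m := 80) hn (by norm_num)
  have hab : ∀ S : Sylow 3 G, IsMulCommutative (S : Subgroup G) := fun S =>
    ⟨⟨IsPGroup.commutative_of_card_eq_prime_sq (p := 3) (hS9 S)⟩⟩
  have h16 : Nat.card (Sylow 3 G) ≠ 16 := by
    intro h16
    have S : Sylow 3 G := default
    haveI := hab S
    have hNS := card_normalizer_sylow_mul S
    rw [h16, hn] at hNS
    set N := normalizer ((S : Subgroup G) : Set G) with hN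
    have R : Sylow 5 N := default
    have hR : Nat.card (R : Subgroup N) = 5 := by
      rw [card_sylow_eq R (k := 1) (m := 9) (by omega) (by norm_num), pow_one]
    have hR1 : Nat.card (Sylow 5 N) = 1 := by
      have h1 := card_sylow_dvd (G := N) (p := 5) (k := 1) (m := 9) (by omega) (by norm_num)
      have h2 := card_sylow_modEq_one 5 N
      have h3' := Nat.le_of_dvd (by norm_num) h1
      unfold Nat.ModEq at h2
      interval_cases h : Nat.card (Sylow 5 N) <;> first | omega | norm_num at h1
    haveI : Subsingleton (Sylow 5 N) := (Nat.card_eq_one_iff_unique.mp hR1).1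
    have hdisj : Disjoint (R : Subgroup N) ((S : Subgroup G).subgroupOf N) :=
      disjoint_iff.mpr (Subgroup.inf_eq_bot_of_coprime (by
        rw [hR, Nat.card_congr (subgroupOfEquivOfLe le_normalizer).toEquiv, hS9 S]
        norm_num))
    have hSn : ((S : Subgroup G).subgroupOf N).Normal := normal_in_normalizer
    obtain ⟨y, hy, hyo⟩ : ∃ y ∈ (S : Subgroup G), orderOf y = 3 := by
      obtain ⟨⟨y, hy⟩, hyo⟩ := exists_prime_orderOf_dvd_card' (G := (S : Subgroup G)) 3
        (by rw [hS9 S]; norm_num)
      rw [Subgroup.orderOf_mk] at hyo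
      exact ⟨y, hy, hyo⟩
    refine hfive ((R : Subgroup N).map N.subtype)
      (by rw [Subgroup.card_map_of_injective (Subgroup.subtype_injective _), hR]) y hyo ?_
    rintro _ ⟨r, hr, rfl⟩
    exact mem_centralizer_singleton_iff.mpr (congrArg Subtype.val
      (Subgroup.commute_of_normal_of_disjoint _ _ R.normal_of_subsingleton hSn hdisj r
        ⟨y, le_normalizer hy⟩ hr (mem_subgroupOf.mpr hy)).eq)
  -- an element of the normalizer inverts `S`
  have hinvert : ∀ S : Sylow 3 G, ∃ g ∈ normalizer ((S : Subgroup G) : Set G),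
      ∀ s ∈ (S : Subgroup G), g * s * g⁻¹ = s⁻¹ := by
    intro S
    haveI := hab S
    set N := normalizer ((S : Subgroup G) : Set G) with hN
    have hNS := card_normalizer_sylow_mul S
    rw [hn, ← hN] at hNS
    have hcomm : ∀ {s : G}, s ∈ (S : Subgroup G) → ∀ {t : G}, t ∈ (S : Subgroup G) → s * t = t * s :=
      fun {s} hs {t} ht => congrArg Subtype.val ((hab S).1.1 ⟨s, hs⟩ ⟨t, ht⟩)
    rcases h3 with h3 | h3 | h3
    · -- ten Sylow subgroups
      rw [h3] at hNS
      obtain ⟨K, hK⟩ := Sylow.exists_subgroup_card_pow_prime (G := N) 2 (n := 3)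
        (Nat.dvd_of_mod_eq_zero (by norm_num; omega))
      set T := K.map N.subtype with hTdef
      have hT : Nat.card T = 8 := by
        rw [hTdef, Subgroup.card_map_of_injective (Subgroup.subtype_injective _), hK]; norm_num
      have hTN : T ≤ N := map_subtype_le _
      let φ : T →* MulAut (S : Subgroup G) :=
        (S : Subgroup G).normalizerMonoidHom.comp (Subgroup.inclusion hTN)
      have hφ : ∀ (t : T) (s : (S : Subgroup G)), (φ t s : G) = (t : G) * s * (t : G)⁻¹ :=
        fun t s => rfl
      have hker : ∀ y ∈ (S : Subgroup G), orderOf y = 3 →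
          ¬ ∃ K' : Subgroup G, Nat.card K' = 4 ∧ K' ≤ T ∧ ∀ k ∈ K', k * y = y * k := by
        rintro y hy hyo ⟨K', hK', hK'T, hK'c⟩
        exact false_of_four_centralizer hG hn (H := N) (by omega) (le_normalizer hy) hyo hK'
          (hK'T.trans hTN) hK'c
      have h4 : ∀ (y : G), y ∈ (S : Subgroup G) → orderOf y = 3 →
          ∀ L : Subgroup T, 4 ∣ Nat.card L → ¬ ∀ t ∈ L, (t : G) * y = y * t := by
        intro y hy hyo L hL hc
        obtain ⟨K', hK'⟩ := Sylow.exists_subgroup_card_pow_prime (G := L) 2 (n := 2) hL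
        refine hker y hy hyo ⟨(K'.map L.subtype).map T.subtype, ?_, map_subtype_le _, ?_⟩
        · rw [Subgroup.card_map_of_injective (Subgroup.subtype_injective _),
            Subgroup.card_map_of_injective (Subgroup.subtype_injective _), hK']
          norm_num
        · rintro _ ⟨_, ⟨l, -, rfl⟩, rfl⟩
          exact hc l l.2
      have hrange : ¬ φ.range = ⊥ := by
        intro e
        obtain ⟨⟨y, hy⟩, hyo⟩ := exists_prime_orderOf_dvd_card' (G := (S : Subgroup G)) 3
          (by rw [hS9 S]; norm_num)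
        rw [Subgroup.orderOf_mk] at hyo
        refine h4 y hy hyo ⊤ (by rw [Subgroup.card_top, hT]; norm_num) fun t _ => ?_
        have h1 : φ t = 1 := by rw [← Subgroup.mem_bot, ← e]; exact ⟨t, rfl⟩
        have h2 : (φ t ⟨y, hy⟩ : G) = y := by rw [h1]; rfl
        rw [hφ] at h2
        exact mul_inv_eq_iff_eq_mul.mp h2
      have hpg : IsPGroup 2 φ.range :=
        (IsPGroup.of_card (p := 2) (n := 3) (G := T) (by rw [hT]; norm_num)).of_surjective _
          φ.rangeRestrict_surjective
      haveI : Nontrivial φ.range := (Subgroup.nontrivial_iff_ne_bot _).mpr hrange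
      haveI := hpg.center_nontrivial
      obtain ⟨c, hc⟩ := exists_prime_orderOf_dvd_card' (G := center φ.range) 2 (by
        obtain ⟨k, hk, hke⟩ := (hpg.to_subgroup (center φ.range)).nontrivial_iff_card.mp inferInstance
        rw [hke]
        exact dvd_pow_self 2 (by omega))
      obtain ⟨w, hw⟩ := c.1.2
      refine ⟨w, hTN w.2, fun s hs => ?_⟩
      have hw2 : φ w * φ w = 1 := by
        rw [hw]
        have : c * c = 1 := by rw [← pow_two, ← hc, pow_orderOf_eq_one]
        exact congrArg Subtype.val (congrArg Subtype.val this)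
      have hwne : φ w ≠ 1 := by
        rw [hw]
        intro e
        rw [show c = 1 from Subtype.ext (Subtype.ext e), orderOf_one] at hc
        norm_num at hc
      have hwc : ∀ t : T, φ t * φ w = φ w * φ t := fun t => by
        rw [hw]
        exact congrArg Subtype.val (Subgroup.mem_center_iff.mp c.2 ⟨φ t, t, rfl⟩)
      let F : Subgroup G :=
        { carrier := {u | u ∈ (S : Subgroup G) ∧ (w : G) * u = u * w}
          one_mem' := ⟨one_mem _, by rw [mul_one, one_mul]⟩
          mul_mem' := fun {u v} hu hv => ⟨mul_mem hu.1 hv.1,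
            by rw [← mul_assoc, hu.2, mul_assoc, hv.2, mul_assoc]⟩
          inv_mem' := fun {u} hu => ⟨inv_mem hu.1, (Commute.inv_right (show Commute (w : G) u from hu.2)).eq⟩ }
      have hFle : F ≤ (S : Subgroup G) := fun u hu => hu.1
      have hFbot : F = ⊥ := by
        have hd : Nat.card F ∣ 3 ^ 2 := by
          have := card_dvd_of_le hFle
          rwa [hS9 S] at this
        obtain ⟨k, hk, hFk⟩ := (Nat.dvd_prime_pow Nat.prime_three).mp hd
        interval_cases k
        · exact Subgroup.card_eq_one.mp hFk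
        · exfalso
          obtain ⟨y, hyF, hyo⟩ := hord3 (D := F) (by rw [hFk]; norm_num)
          have hy1 : y ≠ 1 := fun e => by rw [e, orderOf_one] at hyo; norm_num at hyo
          have hinvF : ∀ t : T, (t : G) * y * (t : G)⁻¹ ∈ F := by
            intro t
            refine ⟨(mem_normalizer_iff.mp (hTN t.2) y).mp (hFle hyF), ?_⟩
            have h1 : (φ w (φ t ⟨y, hFle hyF⟩) : G) = φ t (φ w ⟨y, hFle hyF⟩) := by
              rw [← MulAut.mul_apply, ← hwc, MulAut.mul_apply]
            have h2 : φ w ⟨y, hFle hyF⟩ = ⟨y, hFle hyF⟩ := Subtype.ext (by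
              rw [hφ]; exact mul_inv_eq_iff_eq_mul.mpr hyF.2)
            rw [h2, hφ, hφ] at h1
            exact mul_inv_eq_iff_eq_mul.mp h1
          have hFN : T ≤ normalizer (F : Set G) := fun t ht => by
            refine Transfer.map_conj_eq_iff.mp (Subgroup.eq_of_le_of_card_ge ?_ ?_)
            · rw [← zpowers_eq_of_prime (p := 3) (by rw [hFk]; norm_num) hyF hy1,
                MonoidHom.map_zpowers, zpowers_le,
                zpowers_eq_of_prime (p := 3) (by rw [hFk]; norm_num) hyF hy1]
              exact hinvF ⟨t, ht⟩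
            · rw [Subgroup.card_map_of_injective (MulEquiv.injective (MulAut.conj t))]
          have h5 := relIndex_centralizer_dvd (p := 3) (P := F) (by rw [hFk]; norm_num)
          have h6 : (centralizer (F : Set G)).relIndex T ≤ 2 :=
            (relIndex_le_of_le_right hFN (ne_zero_of_dvd_ne_zero (by norm_num) h5)).trans
              (Nat.le_of_dvd (by norm_num) h5)
          have h7 := ((centralizer (F : Set G)).subgroupOf T).card_mul_index
          rw [← Subgroup.relIndex, hT] at h7
          refine h4 y (hFle hyF) hyo ((centralizer (F : Set G)).subgroupOf T) ?_ fun t ht =>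
            (mem_centralizer_iff.mp ht y hyF).symm
          apply Nat.dvd_of_mod_eq_zero
          interval_cases h8 : (centralizer (F : Set G)).relIndex T <;> omega
        · exfalso
          refine hwne (MulEquiv.ext fun u => Subtype.ext ?_)
          have hu : (u : G) ∈ F := by
            rw [Subgroup.eq_of_le_of_card_ge hFle (by rw [hS9 S, hFk]; norm_num)]
            exact u.2
          rw [hφ]
          exact mul_inv_eq_iff_eq_mul.mpr hu.2
      have hmem : s * ((w : G) * s * (w : G)⁻¹) ∈ F := by
        refine ⟨mul_mem hs ((mem_normalizer_iff.mp (hTN w.2) s).mp hs), ?_⟩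
        have h1 : ((φ w * φ w) ⟨s, hs⟩ : G) = s := by rw [hw2]; rfl
        rw [MulAut.mul_apply, hφ, hφ] at h1
        have h2 := hcomm hs ((mem_normalizer_iff.mp (hTN w.2) s).mp hs)
        calc (w : G) * (s * ((w : G) * s * (w : G)⁻¹))
            = ((w : G) * s * (w : G)⁻¹) * ((w : G) * ((w : G) * s * (w : G)⁻¹) * (w : G)⁻¹) * w := by
              group
          _ = ((w : G) * s * (w : G)⁻¹) * s * w := by rw [h1]
          _ = s * ((w : G) * s * (w : G)⁻¹) * w := by rw [← h2]
      rw [hFbot, Subgroup.mem_bot] at hmem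
      exact eq_inv_of_mul_eq_one_right hmem
    · exact absurd h3 h16
    · -- forty Sylow subgroups
      rw [h3] at hNS
      obtain ⟨⟨t, htN⟩, hto⟩ := exists_prime_orderOf_dvd_card' (G := N) 2
        (Nat.dvd_of_mod_eq_zero (by omega))
      rw [Subgroup.orderOf_mk] at hto
      have htt : t * t = 1 := by rw [← pow_two, ← hto, pow_orderOf_eq_one]
      refine ⟨t, htN, fun s hs => ?_⟩
      have hts : t * s * t⁻¹ ∈ (S : Subgroup G) := (mem_normalizer_iff.mp htN s).mp hs
      have hM : (S : Subgroup G) ⊔ zpowers t = N := by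
        have hle : (S : Subgroup G) ⊔ zpowers t ≤ N := sup_le le_normalizer (zpowers_le.mpr htN)
        refine Subgroup.eq_of_le_of_card_ge hle ?_
        have h1 := card_dvd_of_le (le_sup_left : (S : Subgroup G) ≤ (S : Subgroup G) ⊔ zpowers t)
        have h2 := card_dvd_of_le (le_sup_right : zpowers t ≤ (S : Subgroup G) ⊔ zpowers t)
        rw [hS9 S] at h1
        rw [Nat.card_zpowers, hto] at h2
        have := Nat.le_of_dvd Nat.card_pos (Nat.Coprime.mul_dvd_of_dvd_of_dvd (by norm_num) h1 h2)
        omega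
      have hti : t⁻¹ = t := inv_eq_of_mul_eq_one_right htt
      set v := s * (t * s * t⁻¹) with hv
      have hvt : t * v = v * t := by
        have e := hcomm hs hts
        calc t * v = t * s * t⁻¹ * (t * t * s * (t * t)⁻¹) * t := by rw [hv]; group
          _ = t * s * t⁻¹ * s * t := by rw [htt]; group
          _ = v * t := by rw [← e]
      have hvS : v ∈ (S : Subgroup G) := mul_mem hs hts
      have hv1 : v = 1 := eq_one_of_commute_normalizer hG S hvS fun n hn' => by
        rw [← hN, ← hM] at hn'
        have : (S : Subgroup G) ⊔ zpowers t ≤ centralizer ({v} : Set G) :=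
          sup_le (fun u hu => mem_centralizer_singleton_iff.mpr (hcomm hu hvS))
            (zpowers_le.mpr (mem_centralizer_singleton_iff.mpr hvt))
        exact mem_centralizer_singleton_iff.mp (this hn')
      exact eq_inv_of_mul_eq_one_right hv1
  -- two Sylow subgroups with non-trivial intersection
  have hcase : ∀ S R : Sylow 3 G, R ≠ S → (S : Subgroup G) ⊓ (R : Subgroup G) = ⊥ := by
    intro S R hne
    by_contra hD
    set D := (S : Subgroup G) ⊓ (R : Subgroup G) with hDdef
    have hDc : Nat.card D = 3 := by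
      have hd : Nat.card D ∣ 3 ^ 2 := by
        have := card_dvd_of_le (inf_le_left : D ≤ (S : Subgroup G))
        rwa [hS9 S] at this
      obtain ⟨k, hk, hDk⟩ := (Nat.dvd_prime_pow Nat.prime_three).mp hd
      interval_cases k
      · exact absurd (Subgroup.card_eq_one.mp hDk) hD
      · rw [hDk]; norm_num
      · exfalso
        have h1 : D = (S : Subgroup G) :=
          Subgroup.eq_of_le_of_card_ge inf_le_left (by rw [hS9 S, hDk]; norm_num)
        exact hne (Sylow.ext (S.3 R.2 (h1 ▸ inf_le_right)))
    obtain ⟨y, hyD, hyo⟩ := hord3 hDc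
    have hy1 : y ≠ 1 := fun e => by rw [e, orderOf_one] at hyo; norm_num at hyo
    set C := centralizer (D : Set G) with hC
    have hCy : centralizer ({y} : Set G) = C := centralizer_eq_of_prime hDc hyD hy1
    have hle : ∀ A : Sylow 3 G, D ≤ (A : Subgroup G) → (A : Subgroup G) ≤ C := fun A hA u hu =>
      mem_centralizer_iff.mpr fun v hv =>
        congrArg Subtype.val ((hab A).1.1 (⟨v, hA hv⟩ : (A : Subgroup G)) ⟨u, hu⟩)
    have hSC := hle S inf_le_left
    have hRC := hle R inf_le_right
    have hn3 : Nat.card (Sylow 3 C) ≠ 1 := fun h1 => by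
      haveI : Subsingleton (Sylow 3 C) := (Nat.card_eq_one_iff_unique.mp h1).1
      exact hne (Sylow.subtype_injective (hP := hRC) (hQ := hSC) (Subsingleton.elim _ _))
    have h9 : 9 ∣ Nat.card C := hS9 S ▸ card_dvd_of_le hSC
    have h5 : ¬ 5 ∣ Nat.card C := fun h => hfive C h y hyo hCy.ge
    obtain ⟨e, he, hNC⟩ := exists_card_normalizer_eq (p := 3) hDc
    obtain ⟨g, hg, hginv⟩ := hinvert S
    have hgD : g ∈ normalizer (D : Set G) := by
      refine Transfer.map_conj_eq_iff.mp ?_
      rw [← zpowers_eq_of_prime hDc hyD hy1, MonoidHom.map_zpowers]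
      show zpowers (g * y * g⁻¹) = _
      rw [hginv y ((inf_le_left : D ≤ _) hyD), Subgroup.zpowers_inv]
    have hgC : g ∉ C := fun h => by
      have h1 : g * y * g⁻¹ = y := mul_inv_eq_iff_eq_mul.mpr (mem_centralizer_iff.mp h y hyD).symm
      rw [hginv y ((inf_le_left : D ≤ _) hyD)] at h1
      have h2 : orderOf y ∣ 2 := orderOf_dvd_of_pow_eq_one (by
        rw [pow_two]; nth_rewrite 1 [← h1]; rw [inv_mul_cancel])
      rw [hyo] at h2
      norm_num at h2
    have he2 : e = 2 := by
      refine ((Nat.dvd_prime Nat.prime_two).mp he).resolve_left fun e1 => hgC ?_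
      rw [e1, one_mul] at hNC
      rw [hC, Subgroup.eq_of_le_of_card_ge (centralizer_le_normalizer' D) hNC.le]
      exact hgD
    rw [he2] at hNC
    have hDt : D ≠ ⊤ := fun e => by rw [e, Subgroup.card_top, hn] at hDc; norm_num at hDc
    have hNt := normalizer_ne_top hD hDt
    have hi := no_index_le_five hG hn hNt
    have hNi := (normalizer (D : Set G)).card_mul_index
    rw [hNC, hn] at hNi
    obtain ⟨j, hj⟩ := h9
    have hj4 : 4 ≤ j := by
      have h1 := card_sylow_modEq_one 3 C
      have h2 : Nat.card (Sylow 3 C) ∣ j := by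
        have h3' := (S.subtype hSC).card_dvd_index
        have h4 := ((S.subtype hSC : Sylow 3 C) : Subgroup C).card_mul_index
        rw [Sylow.coe_subtype, Nat.card_congr (subgroupOfEquivOfLe hSC).toEquiv, hS9 S, hj] at h4
        have h5' : ((S : Subgroup G).subgroupOf C).index = j := Nat.eq_of_mul_eq_mul_left (by norm_num) h4
        rwa [Sylow.coe_subtype, h5'] at h3'
      have hj0 : 0 < j := by
        have := Nat.card_pos (α := C)
        omega
      have h3' := Nat.le_of_dvd hj0 h2
      have hs0 := Nat.card_pos (α := Sylow 3 C)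
      unfold Nat.ModEq at h1
      omega
    rw [hj] at hNi h5
    have hj16 : j ∣ 40 := ⟨(normalizer (D : Set G)).index, by linarith⟩
    have hjle := Nat.le_of_dvd (by norm_num) hj16
    have hj4' : j = 4 := by
      have hlt : j < 8 := by nlinarith
      interval_cases j <;> first | omega | norm_num at hj16
    subst hj4'
    obtain ⟨K, hK⟩ := Sylow.exists_subgroup_card_pow_prime (G := C) 2 (n := 2) (by rw [hj]; norm_num)
    refine false_of_four_centralizer hG hn (H := normalizer (D : Set G)) (by rw [hNC, hj])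
      (le_normalizer hyD) hyo (K := K.map C.subtype)
      (by rw [Subgroup.card_map_of_injective (Subgroup.subtype_injective _), hK]; norm_num)
      ((map_subtype_le _).trans (centralizer_le_normalizer' D)) ?_
    rintro _ ⟨k, -, rfl⟩
    exact (mem_centralizer_iff.mp k.2 y hyD).symm
  rcases h3 with h3 | h3 | h3
  · have S : Sylow 3 G := default
    refine false_of_trivial_inter hG hn S ?_ (hcase S)
    have := card_normalizer_sylow_mul S
    rw [h3, hn] at this
    omega
  · exact h16 h3
  · obtain ⟨P, R, hne, hle⟩ := exists_inter_index_prime (G := G) 3 (by rw [h3]; decide)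
    have h1 := hle.1
    rw [hcase P R hne.symm, card_bot, hS9 P] at h1
    norm_num at h1

end Cfsg.Agent.Lib.SmallGroups.Below1092
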